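import Groth.Agent.FFLib.Ram.Inertia
import Mathlib.RingTheory.IntegralDomain

/-! Higher ramification groups. -/

set_option linter.unusedSectionVars false
set_option linter.style.haveILetI false

namespace Groth.Agent.FFLib

open FunFld WithZero Polynomial

variable {k K K' : Type*} [Field k] [Field K] [Field K'] [Algebra k K] [Algebra K K'] [Algebra k K']
  [IsScalarTower k K K'] {Q : Place k K'}

/-- The residue map as an algebra homomorphism. -/
noncomputable def resHom (Q : Place k K') : Q.O →ₐ[k] Res Q :=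
  { IsLocalRing.residue Q.O with commutes' := fun c => (residue_algebraMap Q c).symm }

/-- The inclusion of the valuation ring as an algebra homomorphism. -/
def valHom (Q : Place k K') : Q.O →ₐ[k] K' :=
  { Q.O.subtype with commutes' := fun c => coe_algebraMap_O Q c }

theorem val_sub_smul_mul (σ : K' ≃ₐ[K] K') (a b : K') :
    σ (a * b) - a * b = (σ a - a) * σ b + a * (σ b - b) := by
  rw [map_mul]; ring

theorem val_map_sub_le {σ : K' ≃ₐ[K] K'} {i : ℕ} (hσ : σ ∈ ramGroup K Q i) {t : K'}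
    (ht : Q.1 t = exp (-1 : ℤ)) :
    ∀ (n : ℕ) (y : K'), Q.1 y ≤ exp (-((n : ℤ) + 1)) → Q.1 (σ y - y) ≤ exp (-((i : ℤ) + n)) := by
  have ht0 : t ≠ 0 := fun h => by rw [h, map_zero] at ht; exact exp_ne_zero ht.symm
  intro n
  induction n with
  | zero => intro y hy; simpa using hσ.2 y (hy.trans (by rw [← exp_zero, exp_le_exp]; norm_num))
  | succ n ih =>
    intro y hy
    have hz : Q.1 (y / t) ≤ exp (-((n : ℤ) + 1)) := by
      rw [map_div₀, ht]
      refine (div_le_iff₀ (zero_lt_iff.mpr exp_ne_zero)).mpr (hy.trans ?_)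
      rw [← exp_add, exp_le_exp]; push_cast; omega
    rw [← mul_div_cancel₀ y ht0, val_sub_smul_mul]
    refine (Q.1.map_add _ _).trans (max_le ?_ ?_)
    · rw [map_mul, hσ.1]
      refine (mul_le_mul' (hσ.2 t (by rw [ht, ← exp_zero, exp_le_exp]; norm_num)) hz).trans ?_
      rw [← exp_add, exp_le_exp]; push_cast; omega
    · rw [map_mul, ht]
      refine (mul_le_mul' le_rfl (ih _ hz)).trans ?_
      rw [← exp_add, exp_le_exp]; push_cast; omega

variable [Algebra.IsSeparable k (Res Q)]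

theorem mem_ramGroup_succ {σ : K' ≃ₐ[K] K'} {j : ℕ} (hj : 1 ≤ j) (hσ : σ ∈ ramGroup K Q j) {t : K'}
    (ht : Q.1 t = exp (-1 : ℤ)) (hσt : Q.1 (σ t - t) ≤ exp (-((j : ℤ) + 1))) :
    σ ∈ ramGroup K Q (j + 1) := by
  have ht0 : t ≠ 0 := fun h => by rw [h, map_zero] at ht; exact exp_ne_zero ht.symm
  refine ⟨hσ.1, fun x hx => ?_⟩
  set a : Res Q := resHom Q ⟨x, hx⟩
  have hδ : Q.1 (σ x - x) ≤ 1 := (hσ.2 x hx).trans (by rw [← exp_zero, exp_le_exp]; omega)
  set δ : Q.O := ⟨σ x - x, hδ⟩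
  set m := minpoly k a
  have hsep : (minpoly k a).Separable := Algebra.IsSeparable.isSeparable k a
  obtain ⟨c, hc⟩ := (m.map (algebraMap k Q.O)).binomExpansion ⟨x, hx⟩ δ
  rw [eval_map_algebraMap, eval_map_algebraMap, derivative_map, eval_map_algebraMap] at hc
  have hc' := congrArg (valHom Q) hc
  simp only [map_add, map_mul, map_pow, ← aeval_algHom_apply] at hc'
  have e1 : valHom Q ⟨x, hx⟩ = x := rfl
  have e2 : valHom Q δ = σ x - x := rfl
  rw [e1, e2, add_sub_cancel] at hc'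
  set y := aeval x m
  set w := aeval x (derivative m)
  have hy : Q.1 y < 1 := by
    have h : IsLocalRing.residue Q.O (aeval (⟨x, hx⟩ : Q.O) m) = 0 := by
      show resHom Q _ = 0
      rw [← aeval_algHom_apply]; exact minpoly.aeval k a
    rw [residue_eq_zero] at h
    rwa [show ((aeval (⟨x, hx⟩ : Q.O) m : Q.O) : K') = y from (aeval_algHom_apply (valHom Q) _ m).symm] at h
  have hw : Q.1 w = 1 := by
    have h : resHom Q (aeval (⟨x, hx⟩ : Q.O) (derivative m)) ≠ 0 := by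
      rw [← aeval_algHom_apply]
      exact hsep.aeval_derivative_ne_zero (minpoly.aeval k a)
    have e : ((aeval (⟨x, hx⟩ : Q.O) (derivative m) : Q.O) : K') = w :=
      (aeval_algHom_apply (valHom Q) (⟨x, hx⟩ : Q.O) (derivative m)).symm
    rw [← e]
    exact le_antisymm (aeval (⟨x, hx⟩ : Q.O) (derivative m) : Q.O).2 (not_lt.mp fun hlt => h ((residue_eq_zero Q _).mpr hlt))
  -- the image of `y`
  have hu : Q.1 (y / t) ≤ 1 := by
    rw [map_div₀, ht, div_le_one₀ (zero_lt_iff.mpr exp_ne_zero)]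
    exact (le_exp_neg_one_iff Q).mpr hy
  have hyσ : Q.1 (σ y - y) ≤ exp (-((j : ℤ) + 1)) := by
    rw [← mul_div_cancel₀ y ht0, val_sub_smul_mul]
    refine (Q.1.map_add _ _).trans (max_le ?_ ?_)
    · rw [map_mul, hσ.1]; exact (mul_le_of_le_one_right' hu).trans hσt
    · rw [map_mul, ht]
      refine (mul_le_mul' le_rfl (hσ.2 _ hu)).trans ?_
      rw [← exp_add, exp_le_exp]; omega
  have hσy : σ y = aeval (σ x) m := (aeval_algHom_apply (σ.restrictScalars k) x m).symm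
  have hkey : w * (σ x - x) = (σ y - y) - (valHom Q c) * (σ x - x) ^ 2 := by
    rw [hσy, hc']; ring
  have := congrArg Q.1 hkey
  rw [map_mul, hw, one_mul] at this
  rw [this]
  push_cast
  refine (Valuation.map_sub _ _ _).trans (max_le hyσ ?_)
  rw [map_mul, map_pow]
  refine (mul_le_mul' (show Q.1 (valHom Q c) ≤ 1 from c.2) (pow_le_pow_left' (hσ.2 x hx) 2)).trans ?_
  rw [one_mul, ← exp_nsmul, exp_le_exp]; simp; omega

/-- Membership is detected by a uniformiser. -/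
theorem mem_ramGroup_iff_unif {σ : K' ≃ₐ[K] K'} (hσ : σ ∈ ramGroup K Q 1) {t : K'}
    (ht : Q.1 t = exp (-1 : ℤ)) {j : ℕ} (hj : 1 ≤ j) :
    σ ∈ ramGroup K Q j ↔ Q.1 (σ t - t) ≤ exp (-(j : ℤ)) := by
  refine ⟨fun h => h.2 t (by rw [ht, ← exp_zero, exp_le_exp]; norm_num), ?_⟩
  induction j, hj using Nat.le_induction with
  | base => exact fun _ => hσ
  | succ j hj ih =>
    intro h
    push_cast at h
    exact mem_ramGroup_succ hj (ih (h.trans (exp_le_exp.mpr (by omega)))) ht h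

/-- Tame quotient is cyclic. -/
theorem tame_cyclic [FiniteDimensional K K'] :
    ∃ σ₀ ∈ ramGroup K Q 1, ∀ σ ∈ ramGroup K Q 1, ∃ n : ℕ, (σ₀ ^ n)⁻¹ * σ ∈ ramGroup K Q 2 := by
  obtain ⟨t, ht0, ht⟩ := exists_unif Q
  have hmem : ∀ σ : ramGroup K Q 1, σ.1 t / t ∈ Q.O := fun σ => by
    rw [mem_O_iff, map_div₀, σ.2.1, ht, div_self exp_ne_zero]
  let f : ramGroup K Q 1 → Res Q := fun σ => IsLocalRing.residue Q.O ⟨σ.1 t / t, hmem σ⟩
  let F : ramGroup K Q 1 →* Res Q :=
    { toFun := f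
      map_one' := by
        show IsLocalRing.residue Q.O ⟨_, _⟩ = 1
        rw [← map_one (IsLocalRing.residue Q.O)]
        exact congrArg _ (Subtype.ext (div_self ht0))
      map_mul' := fun σ τ => by
        show IsLocalRing.residue Q.O ⟨_, _⟩ = IsLocalRing.residue Q.O ⟨_, _⟩ * IsLocalRing.residue Q.O ⟨_, _⟩
        rw [← map_mul, ← sub_eq_zero, ← map_sub, residue_eq_zero]
        show Q.1 (σ.1 (τ.1 t) / t - σ.1 t / t * (τ.1 t / t)) < 1
        rw [show σ.1 (τ.1 t) / t - σ.1 t / t * (τ.1 t / t) =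
          σ.1 t / t * (σ.1 (τ.1 t / t) - τ.1 t / t) by
            rw [map_div₀]
            have : σ.1 t ≠ 0 := (_root_.map_ne_zero _).mpr ht0
            field_simp, map_mul]
        exact (mul_le_of_le_one_left' (hmem σ)).trans_lt ((le_exp_neg_one_iff Q).mp (by
          simpa using σ.2.2 _ (hmem τ))) }
  let U := F.toHomUnits
  have hker : ∀ σ : ramGroup K Q 1, U σ = 1 → σ.1 ∈ ramGroup K Q 2 := fun σ h => by
    have h' : f σ - 1 = 0 := sub_eq_zero.mpr (congrArg Units.val h)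
    rw [show f σ - 1 = IsLocalRing.residue Q.O (⟨σ.1 t / t, hmem σ⟩ - 1) by rw [map_sub, map_one],
      residue_eq_zero] at h'
    change Q.1 (σ.1 t / t - 1) < 1 at h'
    refine (mem_ramGroup_iff_unif σ.2 ht one_le_two).mpr ?_
    rw [show σ.1 t - t = (σ.1 t / t - 1) * t by rw [sub_mul, div_mul_cancel₀ _ ht0, one_mul], map_mul, ht]
    refine (mul_le_mul' ((le_exp_neg_one_iff Q).mpr h') le_rfl).trans ?_
    rw [← exp_add, exp_le_exp]; norm_num
  haveI : Finite U.range := Set.finite_range U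
  obtain ⟨⟨g, s, rfl⟩, hg⟩ := IsCyclic.exists_monoid_generator (α := U.range)
  refine ⟨s.1, s.2, fun σ hσ => ?_⟩
  obtain ⟨n, hn⟩ := hg ⟨U ⟨σ, hσ⟩, _, rfl⟩
  refine ⟨n, hker ((s ^ n)⁻¹ * ⟨σ, hσ⟩) ?_⟩
  have hn' : U s ^ n = U ⟨σ, hσ⟩ := congrArg Subtype.val hn
  rw [map_mul, map_inv, map_pow, hn', inv_mul_cancel]

omit [Algebra.IsSeparable k (Res Q)] in
theorem sub_add_of_mul {σ τ : K' ≃ₐ[K] K'} {i : ℕ} (hi : 2 ≤ i) (hσ : σ ∈ ramGroup K Q i)
    (hτ : τ ∈ ramGroup K Q i) {t : K'} (ht : Q.1 t = exp (-1 : ℤ)) :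
    Q.1 (((σ * τ) t - t) - ((σ t - t) + (τ t - t))) ≤ exp (-((i : ℤ) + 1)) := by
  have h := val_map_sub_le hσ ht (i - 1) (τ t - t) ((hτ.2 t (by
    rw [ht, ← exp_zero, exp_le_exp]; norm_num)).trans (exp_le_exp.mpr (by omega)))
  rw [AlgEquiv.mul_apply, show σ (τ t) - t - (σ t - t + (τ t - t)) = σ (τ t - t) - (τ t - t) by
    rw [map_sub]; ring]
  exact h.trans (exp_le_exp.mpr (by omega))

theorem higher_quotient {i : ℕ} (hi : 2 ≤ i) {σ τ : K' ≃ₐ[K] K'} (hσ : σ ∈ ramGroup K Q i)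
    (hτ : τ ∈ ramGroup K Q i) [FiniteDimensional K K'] :
    σ * τ * σ⁻¹ * τ⁻¹ ∈ ramGroup K Q (i + 1) ∧
      (ringChar K = 0 → σ ∈ ramGroup K Q (i + 1)) ∧
      ∀ p : ℕ, p.Prime → ringChar K = p → σ ^ p ∈ ramGroup K Q (i + 1) := by
  obtain ⟨t, ht0, ht⟩ := exists_unif Q
  have key : ∀ g ∈ ramGroup K Q i, Q.1 (g t - t) ≤ exp (-((i : ℤ) + 1)) → g ∈ ramGroup K Q (i + 1) :=
    fun g hg h => mem_ramGroup_succ (by omega) hg ht h
  have hpow : ∀ g ∈ ramGroup K Q i, ∀ n : ℕ,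
      Q.1 (((g ^ n) t - t) - (n : K') * (g t - t)) ≤ exp (-((i : ℤ) + 1)) := by
    intro g hg n
    induction n with
    | zero => simp
    | succ n ih =>
      rw [show ((g ^ (n + 1)) t - t) - ((n + 1 : ℕ) : K') * (g t - t) =
        (((g ^ n * g) t - t) - (((g ^ n) t - t) + (g t - t))) + (((g ^ n) t - t) - (n : K') * (g t - t)) by
          rw [pow_succ]; push_cast; ring]
      exact (Q.1.map_add _ _).trans (max_le (sub_add_of_mul hi (Subgroup.pow_mem _ hg n) hg ht) ih)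
  refine ⟨?_, fun hp => ?_, fun p _ hp => ?_⟩
  · set c := σ * τ * σ⁻¹ * τ⁻¹
    have hc : c ∈ ramGroup K Q i :=
      mul_mem (mul_mem (mul_mem hσ hτ) (inv_mem hσ)) (inv_mem hτ)
    refine key c hc ?_
    have h1 := sub_add_of_mul hi hσ hτ ht
    have h2 := sub_add_of_mul hi hτ hσ ht
    have h3 := sub_add_of_mul hi hc (mul_mem hτ hσ) ht
    rw [show c * (τ * σ) = σ * τ by simp [c, mul_assoc]] at h3
    rw [show c t - t = (((σ * τ) t - t) - ((σ t - t) + (τ t - t)))
      - (((σ * τ) t - t) - ((c t - t) + ((τ * σ) t - t)))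
      - (((τ * σ) t - t) - ((τ t - t) + (σ t - t))) by ring]
    exact (Q.1.map_sub _ _).trans (max_le ((Q.1.map_sub _ _).trans (max_le h1 h3)) h2)
  · refine key σ hσ ?_
    have h := hpow σ hσ (orderOf σ)
    rw [pow_orderOf_eq_one, AlgEquiv.one_apply, sub_self, zero_sub, Valuation.map_neg, map_mul] at h
    have hn : ((orderOf σ : ℕ) : k) ≠ 0 := fun h0 => by
      have h1 : ((orderOf σ : ℕ) : K) = 0 := by rw [← map_natCast (algebraMap k K), h0, map_zero]
      rw [ringChar.spec, hp, zero_dvd_iff] at h1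
      exact (orderOf_pos σ).ne' h1
    rwa [← map_natCast (algebraMap k K'), val_algebraMap Q hn, one_mul] at h
  · refine key _ (Subgroup.pow_mem _ hσ p) ?_
    have h := hpow σ hσ p
    have : (p : K') = 0 := by
      rw [← map_natCast (algebraMap K K'), show (p : K) = 0 by rw [ringChar.spec, hp], map_zero]
    rwa [this, zero_mul, sub_zero] at h

end Groth.Agent.FFLib
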