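import Groth.Agent.FFLib.Trace.IntegralBasis
import Groth.Agent.FFLib.Ram.Higher
import Mathlib.RingTheory.Unramified.Field
import Mathlib.RingTheory.TensorProduct.Free

/-! Constant extensions: integral closure and ramification. -/

set_option linter.unusedSectionVars false
set_option linter.style.haveILetI false

namespace Groth.Agent.FFLib

open FunFld WithZero
open scoped TensorProduct

variable {k k' K K' : Type*} [Field k] [Field k'] [Field K] [Field K']
  [Algebra k k'] [FiniteDimensional k k'] [Algebra k K] [Algebra K K'] [Algebra k' K'] [Algebra k K']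
  [IsScalarTower k k' K'] [IsScalarTower k K K']

/-- A basis of the scalar extension from a basis of the constants. -/
theorem exists_const_basis (h : Function.Bijective (Algebra.TensorProduct.productMap
    (IsScalarTower.toAlgHom k k' K') (IsScalarTower.toAlgHom k K K'))) {n : Type*} (v : Module.Basis n k k') :
    ∃ vK : Module.Basis n K K', ∀ i, vK i = algebraMap k' K' (v i) := by
  let f : K ⊗[k] k' →ₐ[K] K' := Algebra.TensorProduct.lift (Algebra.ofId K K')
    (IsScalarTower.toAlgHom k k' K') fun a b => Commute.all _ _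
  have hf : (f : K ⊗[k] k' → K') = (Algebra.TensorProduct.productMap
      (IsScalarTower.toAlgHom k k' K') (IsScalarTower.toAlgHom k K K')) ∘ Algebra.TensorProduct.comm k K k' := by
    funext w
    induction w with
    | zero => simp
    | tmul a b => simp [f, mul_comm]
    | add x y hx hy =>
      simp only [Function.comp_apply] at hx hy ⊢
      rw [map_add, map_add, map_add, hx, hy]
  have hbij : Function.Bijective f := by
    rw [hf]
    exact h.comp (Algebra.TensorProduct.comm k K k').bijective
  refine ⟨(Algebra.TensorProduct.basis K v).map (AlgEquiv.ofBijective f hbij).toLinearEquiv, fun i => ?_⟩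
  rw [Module.Basis.map_apply, Algebra.TensorProduct.basis_apply]
  show f (1 ⊗ₜ v i) = _
  simp [f]

theorem const_val_le_one (R : Place k K') (c : k') : R.1 (algebraMap k' K' c) ≤ 1 := by
  by_contra hlt
  have hne : algebraMap k' K' c ≠ 0 := fun e => hlt (by rw [e, map_zero]; exact zero_le)
  exact transcendental_of_val_ne_one R hne (fun e => hlt e.le)
    ((Algebra.IsAlgebraic.isAlgebraic (R := k) c).algHom (IsScalarTower.toAlgHom k k' K'))

set_option maxHeartbeats 1600000 in
/-- Integral elements of a constant extension with reduced residue algebra. -/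
theorem constExt {κ : Type*} [Field κ] [Algebra k κ] (h : Function.Bijective (Algebra.TensorProduct.productMap
    (IsScalarTower.toAlgHom k k' K') (IsScalarTower.toAlgHom k K K')))
    (hF : IsFF k K) (P : Place k K) (resH : P.O →ₐ[k] κ) (hker : ∀ a, resH a = 0 ↔ P.1 (a : K) < 1)
    (hred : IsReduced (κ ⊗[k] k'))
    [Algebra P.O K'] [IsScalarTower P.O K K'] :
    (integralClosure P.O K').toSubring = (Algebra.adjoin P.O (Set.range (algebraMap k' K'))).toSubring ∧
      ∀ Q : Place k K', IsOver Q P → IsOverWith Q P 1 := by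
  classical
  let v := Module.finBasis k k'
  obtain ⟨vK, hvK⟩ := exists_const_basis (K := K) h v
  haveI : FiniteDimensional K K' := Module.Finite.of_basis vK
  set Qs := (over_finite (K' := K') hF P).toFinset
  have hQs : ∀ R, R ∈ Qs ↔ IsOver R P := fun R => Set.Finite.mem_toFinset _
  have hg : (algebraMap K K').comp P.O.subtype = algebraMap P.O K' :=
    RingHom.ext fun c => (IsScalarTower.algebraMap_apply P.O K K' c).symm
  obtain ⟨f, a, t, B, -, -, hBz, -⟩ := exists_layered_basis hF P Qs hQs 0
  obtain ⟨π, hπ0, hπ⟩ := exists_unif P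
  haveI : IsScalarTower k P.O K := IsScalarTower.of_algebraMap_eq fun _ => rfl
  haveI : IsScalarTower k P.O K' := IsScalarTower.of_algebraMap_eq fun c => by
    rw [IsScalarTower.algebraMap_apply P.O K K', ← IsScalarTower.algebraMap_apply k P.O K,
      ← IsScalarTower.algebraMap_apply]
  -- coordinates of small elements are small
  have hsmall : ∀ z : K', (∀ R ∈ Qs, R.1 z < 1) → (∀ i, P.1 (vK.repr z i) ≤ 1) → ∀ i, P.1 (vK.repr z i) < 1 := by
    intro z hz hc i
    let ι : P.O ⊗[k] k' →ₐ[k] K' := Algebra.TensorProduct.productMap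
      (IsScalarTower.toAlgHom k P.O K') (IsScalarTower.toAlgHom k k' K')
    let red : P.O ⊗[k] k' →ₐ[k] κ ⊗[k] k' := Algebra.TensorProduct.map resH (AlgHom.id k k')
    let bT := Algebra.TensorProduct.basis P.O v
    let bA := Algebra.TensorProduct.basis κ v
    have hcoord : ∀ w : P.O ⊗[k] k', ∀ l, vK.repr (ι w) l = ((bT.repr w l : P.O) : K) := by
      intro w l
      have : ι w = ∑ l, ((bT.repr w l : P.O) : K) • vK l := by
        conv_lhs => rw [← bT.sum_repr w]
        rw [map_sum]
        refine Finset.sum_congr rfl fun l _ => ?_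
        rw [show bT.repr w l • bT l = (bT.repr w l) ⊗ₜ[k] (v l) by
          rw [Algebra.TensorProduct.basis_apply, TensorProduct.smul_tmul', smul_eq_mul, mul_one]]
        simp only [ι, Algebra.TensorProduct.productMap_apply_tmul, IsScalarTower.coe_toAlgHom', hvK,
          Algebra.smul_def, IsScalarTower.algebraMap_apply P.O K K']
        rfl
      rw [this, Module.Basis.repr_sum_self]
    let w : P.O ⊗[k] k' := ∑ l, (⟨vK.repr z l, hc l⟩ : P.O) • bT l
    have hw : ι w = z := by
      refine vK.repr.injective (Finsupp.ext fun l => ?_)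
      rw [hcoord, show bT.repr w l = (⟨vK.repr z l, hc l⟩ : P.O) from congrFun (bT.repr_sum_self _) l]
    -- bound coordinates through the integral basis
    obtain ⟨C, hC⟩ : ∃ C : ℕ, ∀ q l, (-P.ord (vK.repr (B q) l)).toNat ≤ C := by
      obtain ⟨C, hC⟩ := Finite.exists_le (fun p : _ × Fin (Module.finrank k k') => (-P.ord (vK.repr (B p.1) p.2)).toNat)
      exact ⟨C, fun q l => hC (q, l)⟩
    set m := C + 1
    set N := Qs.sup (fun R => ramIdx R P) * m
    have hzN : ∀ q, P.1 (B.repr (z ^ N) q) ≤ exp (-(m : ℤ)) := by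
      intro q
      have h1 := (hBz ((algebraMap K K' π ^ m)⁻¹ * z ^ N)).mp (fun R hR => by
        obtain ⟨e, he⟩ := (hQs R).mp hR
        have hle : e ≤ Qs.sup (fun R => ramIdx R P) := by
          have := Finset.le_sup (f := fun R => ramIdx R P) hR
          rwa [ramIdx_eq hF he] at this
        have h2 : R.1 (z ^ N) ≤ exp (-((e : ℤ) * m)) := by
          rw [map_pow]
          refine (pow_le_pow_left' ((le_exp_neg_one_iff R).mpr (hz R hR)) N).trans ?_
          rw [← exp_nsmul, exp_le_exp, nsmul_eq_mul]
          have : e * m ≤ N := Nat.mul_le_mul_right m hle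
          zify at this
          linarith
        rw [map_mul, map_inv₀, map_pow, he, hπ, inv_mul_le_one₀ (zero_lt_iff.mpr (by simp))]
        refine h2.trans (le_of_eq ?_)
        rw [← exp_nsmul, ← exp_nsmul, nsmul_eq_mul, nsmul_eq_mul]
        congr 1; ring) q
      rw [show (algebraMap K K' π ^ m)⁻¹ * z ^ N = (π ^ m)⁻¹ • z ^ N by
        rw [Algebra.smul_def, map_inv₀, map_pow], map_smul, Finsupp.smul_apply, smul_eq_mul, map_mul,
        map_inv₀, map_pow, hπ, inv_mul_le_one₀ (zero_lt_iff.mpr (by simp)), ← exp_nsmul, nsmul_eq_mul] at h1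
      simpa using h1
    have hcN : ∀ l, P.1 (vK.repr (z ^ N) l) < 1 := by
      intro l
      conv_lhs => rw [← B.sum_repr (z ^ N)]
      rw [map_sum, Finsupp.finsetSum_apply]
      refine P.1.map_sum_lt one_ne_zero fun q _ => ?_
      rw [map_smul, Finsupp.smul_apply, smul_eq_mul, map_mul]
      rcases eq_or_ne (vK.repr (B q) l) 0 with e | e
      · rw [e, map_zero, mul_zero]; exact one_pos
      refine (mul_le_mul' (hzN q) (le_of_eq (val_eq_exp P e))).trans_lt ?_
      rw [← exp_add, ← exp_zero, exp_lt_exp]
      have := hC q l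
      simp only [m]; push_cast; omega
    have hred0 : ∀ u : P.O ⊗[k] k', red u = ∑ l, resH (bT.repr u l) • bA l := fun u => by
      conv_lhs => rw [← bT.sum_repr u]
      rw [map_sum]
      refine Finset.sum_congr rfl fun l _ => ?_
      rw [Algebra.TensorProduct.basis_apply, Algebra.TensorProduct.basis_apply, TensorProduct.smul_tmul',
        TensorProduct.smul_tmul', smul_eq_mul, mul_one, smul_eq_mul, mul_one]
      rfl
    have hnil : red w = 0 := by
      refine IsNilpotent.eq_zero ⟨N, ?_⟩
      rw [← map_pow, hred0]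
      refine Finset.sum_eq_zero fun l _ => ?_
      rw [show resH (bT.repr (w ^ N) l) = 0 from (hker _).mpr (by
        rw [← hcoord, map_pow, hw]; exact hcN l), zero_smul]
    rw [hred0] at hnil
    have h0 := Fintype.linearIndependent_iff.mp bA.linearIndependent _ hnil i
    rw [show bT.repr w i = (⟨vK.repr z i, hc i⟩ : P.O) from congrFun (bT.repr_sum_self _) i] at h0
    exact (hker _).mp h0
  -- integral elements have integral coordinates
  have hint : ∀ z : K', (∀ R ∈ Qs, R.1 z ≤ 1) → ∀ i, P.1 (vK.repr z i) ≤ 1 := by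
    intro z hz i
    obtain ⟨i0, -, hi0⟩ := Finset.exists_max_image Finset.univ (fun i => P.1 (vK.repr z i)) ⟨i, Finset.mem_univ i⟩
    refine (hi0 i (Finset.mem_univ i)).trans (not_lt.mp fun hlt => ?_)
    have hne : vK.repr z i0 ≠ 0 := fun e => by rw [e, map_zero] at hlt; exact not_lt_zero hlt
    have h1 := hsmall ((vK.repr z i0)⁻¹ • z) (fun R hR => by
      obtain ⟨e, he⟩ := (hQs R).mp hR
      rw [Algebra.smul_def, map_mul, he]
      refine (mul_le_of_le_one_right' (hz R hR)).trans_lt (pow_lt_one' ?_ (by have := over_pos hF he; omega))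
      rw [map_inv₀]; exact inv_lt_one_of_one_lt₀ hlt) (fun l => by
      rw [map_smul, Finsupp.smul_apply, smul_eq_mul, map_mul, map_inv₀,
        inv_mul_le_one₀ (zero_lt_iff.mpr (val_ne_zero P hne))]
      exact hi0 l (Finset.mem_univ l)) i0
    rw [map_smul, Finsupp.smul_apply, smul_eq_mul, inv_mul_cancel₀ hne, map_one] at h1
    exact lt_irrefl _ h1
  refine ⟨le_antisymm (fun z hz => ?_) (fun z hz => ?_), fun Q hQ => ?_⟩
  · obtain ⟨p, hp, hpz⟩ := (mem_integralClosure_iff P.O K').mp hz
    have hz1 := hint z fun R hR => val_le_one_of_monic' ((hQs R).mp hR) hp (hg.symm ▸ hpz)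
    show z ∈ Algebra.adjoin P.O (Set.range (algebraMap k' K'))
    rw [← vK.sum_repr z]
    refine Subalgebra.sum_mem _ fun i _ => ?_
    rw [Algebra.smul_def]
    refine Subalgebra.mul_mem _ ?_ (Algebra.subset_adjoin ⟨v i, (hvK i).symm⟩)
    rw [show algebraMap K K' (vK.repr z i) = algebraMap P.O K' ⟨_, hz1 i⟩ from
      (IsScalarTower.algebraMap_apply P.O K K' ⟨vK.repr z i, hz1 i⟩).symm]
    exact Subalgebra.algebraMap_mem _ _
  · have : Algebra.adjoin P.O (Set.range (algebraMap k' K')) ≤ integralClosure P.O K' := by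
      refine Algebra.adjoin_le ?_
      rintro _ ⟨c, rfl⟩
      obtain ⟨p, hp, hpz⟩ := exists_monic_of_le_one hF P (z := algebraMap k' K' c) fun R _ => const_val_le_one R c
      exact (mem_integralClosure_iff P.O K').mpr ⟨p, hp, hg ▸ hpz⟩
    exact this hz
  · obtain ⟨e, he⟩ := id hQ
    have hQ' : Q ∈ Qs := (hQs Q).mpr hQ
    obtain ⟨s, -, hs⟩ := exists_unif Q
    obtain ⟨z, hz⟩ := exists_approx Qs (fun S => if S = Q then s else 0) (fun S => if S = Q then 2 else 1)
    have hzQ : Q.1 z = exp (-1 : ℤ) := by
      have := hz Q hQ'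
      rw [if_pos rfl, if_pos rfl] at this
      rw [← sub_add_cancel z s, Valuation.map_add_eq_of_lt_right _ (this.trans_lt (by rw [hs, exp_lt_exp]; norm_num)), hs]
    have hzS : ∀ S ∈ Qs, S.1 z < 1 := fun S hS => by
      by_cases h : S = Q
      · rw [h, hzQ, ← exp_zero, exp_lt_exp]; norm_num
      · have := hz S hS
        rw [if_neg h, if_neg h, sub_zero] at this
        exact (le_exp_neg_one_iff S).mp this
    have hlt := hsmall z hzS (hint z fun R hR => (hzS R hR).le)
    have hle : Q.1 z ≤ exp (-(e : ℤ)) := by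
      rw [← vK.sum_repr z]
      refine Q.1.map_sum_le fun i _ => ?_
      rw [Algebra.smul_def, map_mul, he, hvK]
      refine (mul_le_of_le_one_right' (const_val_le_one Q (v i))).trans
        ((pow_le_pow_left' ((le_exp_neg_one_iff P).mpr (hlt i)) e).trans ?_)
      rw [← exp_nsmul, exp_le_exp, nsmul_eq_mul]; omega
    rw [hzQ, exp_le_exp] at hle
    have := over_pos hF he
    obtain rfl : e = 1 := by omega
    exact he

theorem constExt_left {κ : Type*} [Field κ] [Algebra k κ] (_hfin : FiniteDimensional k κ) [Algebra.IsSeparable k κ]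
    (h : Function.Bijective (Algebra.TensorProduct.productMap
      (IsScalarTower.toAlgHom k k' K') (IsScalarTower.toAlgHom k K K')))
    (hF : IsFF k K) (P : Place k K) (resH : P.O →ₐ[k] κ) (hker : ∀ a, resH a = 0 ↔ P.1 (a : K) < 1)
    [Algebra P.O K'] [IsScalarTower P.O K K'] :
    (integralClosure P.O K').toSubring = (Algebra.adjoin P.O (Set.range (algebraMap k' K'))).toSubring ∧
      ∀ Q : Place k K', IsOver Q P → IsOverWith Q P 1 := by
  have := Algebra.FormallyUnramified.of_isSeparable k κ
  have : IsReduced (k' ⊗[k] κ) := Algebra.FormallyUnramified.isReduced_of_field k' _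
  exact constExt h hF P resH hker (isReduced_of_injective _ (Algebra.TensorProduct.comm k κ k').injective)

theorem constExt_right {κ : Type*} [Field κ] [Algebra k κ] [Algebra.IsSeparable k k']
    (h : Function.Bijective (Algebra.TensorProduct.productMap
      (IsScalarTower.toAlgHom k k' K') (IsScalarTower.toAlgHom k K K')))
    (hF : IsFF k K) (P : Place k K) (resH : P.O →ₐ[k] κ) (hker : ∀ a, resH a = 0 ↔ P.1 (a : K) < 1)
    [Algebra P.O K'] [IsScalarTower P.O K K'] :
    (integralClosure P.O K').toSubring = (Algebra.adjoin P.O (Set.range (algebraMap k' K'))).toSubring ∧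
      ∀ Q : Place k K', IsOver Q P → IsOverWith Q P 1 := by
  have := Algebra.FormallyUnramified.of_isSeparable k k'
  exact constExt h hF P resH hker (Algebra.FormallyUnramified.isReduced_of_field κ _)

end Groth.Agent.FFLib
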