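import Groth.Agent.FFLib.Ram.Inertia
import Mathlib.FieldTheory.Galois.Basic

/-! The inertia field. -/

set_option linter.unusedSectionVars false

namespace Groth.Agent.FFLib

open FunFld WithZero

variable {k K K' : Type*} [Field k] [Field K] [Field K'] [Algebra k K] [Algebra K K'] [Algebra k K']
  [IsScalarTower k K K'] [FiniteDimensional K K'] [IsGalois K K']

theorem isScalarTower_E (E : IntermediateField K K') : IsScalarTower k E K' :=
  IsScalarTower.of_algebraMap_eq fun _ => rfl

attribute [local instance] isScalarTower_E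

/-- Ramification index over an intermediate field. -/
theorem card_inertia_over (hF : IsFF k K) (E : IntermediateField K K') {Q : Place k K'} {Q₁ : Place k E}
    {e₁ : ℕ} (h : IsOverWith Q Q₁ e₁) [Algebra.IsSeparable k (Res Q)] :
    Nat.card ↥(E.fixingSubgroup ⊓ ramGroup K Q 1) = e₁ := by
  rw [← card_inertia (K := E) (IsFF.ext (K' := E) hF) h]
  refine Nat.card_congr
    { toFun := fun σ => ⟨IntermediateField.fixingSubgroupEquiv E ⟨σ.1, σ.2.1⟩, σ.2.2⟩
      invFun := fun τ => ⟨τ.1.restrictScalars K, ((IntermediateField.fixingSubgroupEquiv E).symm τ.1).2, τ.2⟩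
      left_inv := fun σ => rfl
      right_inv := fun τ => rfl }

theorem exists_below (hF : IsFF k K) (E : IntermediateField K K') (Q : Place k K') :
    ∃ (Q₁ : Place k E) (e₁ : ℕ), IsOverWith Q Q₁ e₁ ∧ 0 < e₁ := by
  obtain ⟨Q₁, e₁, h0, h₁⟩ := exists_over (IsFF.ext (K' := E) hF) Q
  exact ⟨Q₁, e₁, h₁, h0⟩

theorem totallyRamified_inertiaField (hF : IsFF k K) (Q : Place k K') [Algebra.IsSeparable k (Res Q)] :
    ∃ Q₁ : Place k (IntermediateField.fixedField (ramGroup K Q 1)),
      IsOverWith Q Q₁ (Module.finrank (IntermediateField.fixedField (ramGroup K Q 1)) K') := by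
  obtain ⟨Q₁, e₁, h₁, -⟩ := exists_below hF (IntermediateField.fixedField (ramGroup K Q 1)) Q
  refine ⟨Q₁, ?_⟩
  rw [IntermediateField.finrank_fixedField_eq_card]
  have h := card_inertia_over hF _ h₁
  rw [IntermediateField.fixingSubgroup_fixedField, inf_idem] at h
  rwa [h]

theorem dvd_of_range_pow_le {L M : Type*} [Field L] [Field M] [Algebra k L] [Algebra k M] (P : Place k L)
    (P' : Place k M) {a b : ℕ}
    (h : Set.range (fun x : L => P.1 x ^ a) ⊆ Set.range (fun x : M => P'.1 x ^ b)) : b ∣ a := by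
  obtain ⟨t, -, ht⟩ := exists_val_eq_exp P 1
  obtain ⟨y, hy⟩ := h ⟨t, rfl⟩
  simp only [ht, ← exp_nsmul] at hy
  have hlog := congrArg log hy
  rw [log_exp, log_pow, nsmul_eq_mul, nsmul_eq_mul, mul_one] at hlog
  exact Int.natCast_dvd_natCast.mp ⟨_, hlog.symm⟩

theorem range_pow_eq_iff {L M : Type*} [Field L] [Field M] [Algebra k L] [Algebra k M] (P : Place k L)
    (P' : Place k M) {a b : ℕ} :
    Set.range (fun x : L => P.1 x ^ a) = Set.range (fun x : M => P'.1 x ^ b) ↔ a = b := by
  constructor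
  · intro h
    exact Nat.dvd_antisymm (dvd_of_range_pow_le P' P h.ge) (dvd_of_range_pow_le P P' h.le)
  · rintro rfl
    rw [show (fun x : L => P.1 x ^ a) = (fun v => v ^ a) ∘ P.1 from rfl,
      show (fun x : M => P'.1 x ^ a) = (fun v => v ^ a) ∘ P'.1 from rfl,
      Set.range_comp, Set.range_comp, P.2.2.range_eq, P'.2.2.range_eq]

theorem unramified_iff_le (hF : IsFF k K) (Q : Place k K') [Algebra.IsSeparable k (Res Q)]
    (E : IntermediateField K K') :
    Set.range (Q.1.comap (algebraMap E K')) = Set.range (Q.1.comap (algebraMap K K')) ↔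
      E ≤ IntermediateField.fixedField (ramGroup K Q 1) := by
  obtain ⟨P, e, -, he⟩ := exists_over hF Q
  obtain ⟨Q₁, e₁, h₁, -⟩ := exists_below hF E Q
  rw [show (Q.1.comap (algebraMap E K') : E → _) = fun x => Q₁.1 x ^ e₁ from funext h₁,
    show (Q.1.comap (algebraMap K K') : K → _) = fun x => P.1 x ^ e from funext he,
    range_pow_eq_iff, IntermediateField.le_iff_le, ← card_inertia_over hF E h₁, ← card_inertia hF he]
  refine ⟨fun h => inf_eq_right.mp (Subgroup.eq_of_le_of_card_ge inf_le_right h.ge), fun h => ?_⟩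
  rw [inf_eq_right.mpr h]

end Groth.Agent.FFLib
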