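import Groth.Agent.FFLib.Ram.Higher
import Groth.Agent.FFLib.Ram.Fixed
import Groth.Agent.FFLib.Diff.RH
import Mathlib.RingTheory.Unramified.Field

/-! Separability of coefficient fields and Hilbert's different formula. -/

set_option linter.unusedSectionVars false
set_option linter.style.haveILetI false

namespace Groth.Agent.FFLib

open FunFld WithZero Polynomial IntermediateField

universe u v w

variable {k : Type u} {K K' : Type v} [Field k] [Field K] [Field K'] [Algebra k K] [Algebra K K']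
  [Algebra k K'] [IsScalarTower k K K'] {F' : Type w} [Field F'] [Algebra k F']
  {Q : Place k K'} {ψ : K' →ₐ[k] LaurentSeries F'}

theorem coeff_zero_mul {a b : LaurentSeries F'} (ha : Low a 0) (hb : Low b 0) :
    (a * b).coeff 0 = a.coeff 0 * b.coeff 0 := by
  have key : ∀ z : LaurentSeries F', Low z 0 → Low (z - HahnSeries.C (z.coeff 0)) 1 := fun z hz i hi => by
    rw [HahnSeries.coeff_sub, HahnSeries.C_apply]
    rcases eq_or_lt_of_le (Int.lt_add_one_iff.mp (by omega : i < 0 + 1)) with rfl | h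
    · rw [HahnSeries.coeff_single_same, sub_self]
    · rw [HahnSeries.coeff_single_of_ne h.ne, hz i h, sub_self]
  have e : a * b - HahnSeries.C (a.coeff 0 * b.coeff 0) =
      (a - HahnSeries.C (a.coeff 0)) * b + HahnSeries.C (a.coeff 0) * (b - HahnSeries.C (b.coeff 0)) := by
    rw [map_mul]; ring
  have h := congrArg (fun z => z.coeff 0) e
  simp only [HahnSeries.coeff_sub, HahnSeries.coeff_add] at h
  rw [((key a ha).mul hb) 0 one_pos, ((show Low (HahnSeries.C (a.coeff 0)) 0 by
    rw [HahnSeries.C_apply]; exact low_single _ le_rfl).mul (key b hb)) 0 one_pos, add_zero,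
    HahnSeries.C_apply, HahnSeries.coeff_single_same, sub_eq_zero] at h
  exact h

theorem low_deriv_zero {z : LaurentSeries F'} (h : Low z 0) : Low (LocRes.D F' z) 0 := fun i hi => by
  rw [LocRes.D_coeff]
  rcases eq_or_ne (i + 1) 0 with e | e
  · rw [e, zero_smul]
  · rw [h (i + 1) (by omega), smul_zero]

/-- Apply a derivation to the coefficients. -/
theorem map_der_leibniz (δ : Derivation k F' F') (x y : LaurentSeries F') :
    (x * y).map δ = x * y.map δ + y * x.map δ := by
  ext n
  rw [HahnSeries.coeff_add, mul_comm y, HahnSeries.map_coeff, HahnSeries.coeff_mul,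
    HahnSeries.coeff_mul_right' y.isPWO_support (y := y.map δ)
      (Function.support_comp_subset (map_zero δ) _),
    HahnSeries.coeff_mul_left' x.isPWO_support (x := x.map δ)
      (Function.support_comp_subset (map_zero δ) _), map_sum, ← Finset.sum_add_distrib]
  refine Finset.sum_congr rfl fun ij _ => ?_
  rw [Derivation.leibniz, smul_eq_mul, smul_eq_mul, HahnSeries.map_coeff, HahnSeries.map_coeff]
  ring

theorem isSeparable_coeffField [FiniteDimensional K K'] [Algebra.IsSeparable K K']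
    (hK : IsFunctionField k K) (hg : IsGeometric k K) (hψ : LocRes.IsExpansionAt Q.1 ψ) {x : K}
    (hx : KaehlerDifferential.D k K x ≠ 0) (hx' : LocRes.vDiff ψ 1 (algebraMap K K' x) ≠ 0) :
    Algebra.IsSeparable k F' := by
  haveI := coeffField_finite (IsFF.ext (K' := K') hK.1) hψ
  rw [← Algebra.FormallyUnramified.iff_isSeparable]
  refine ⟨⟨fun z z' => ?_⟩⟩
  by_contra hne
  obtain ⟨l, hl⟩ : ∃ l : Module.Dual F' (KaehlerDifferential k F'), l (z - z') ≠ 0 := by
    by_contra! h
    exact sub_ne_zero.mpr hne ((Module.forall_dual_apply_eq_zero_iff F' _).mp h)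
  obtain ⟨a, ha⟩ : ∃ a : F', l (KaehlerDifferential.D k F' a) ≠ 0 := by
    by_contra! h
    refine hl ?_
    have : l = 0 := by
      apply LinearMap.ext_on (KaehlerDifferential.span_range_derivation k F')
      rintro _ ⟨b, rfl⟩; exact h b
    rw [this]; rfl
  let δ := l.compDer (KaehlerDifferential.D k F')
  have hδa : δ a ≠ 0 := ha
  set x' := algebraMap K K' x
  set lam := (ψ x').map δ / LocRes.D F' (ψ x')
  have hDx : LocRes.D F' (ψ x') ≠ 0 := fun h => hx' (by rw [vDiff_one, h, map_zero])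
  let f : K' →+ LaurentSeries F' :=
    AddMonoidHom.mk' (fun y => (ψ y).map δ - lam * LocRes.D F' (ψ y)) (fun p q => by
      rw [map_add ψ, map_add (LocRes.D F'), show (ψ p + ψ q).map δ = (ψ p).map δ + (ψ q).map δ by
        ext n; simp]
      ring)
  have hsep : Algebra.IsSeparable k⟮x'⟯ K' := isSeparable_over_map (separating_of_D_ne hK hg hx).2
  have hf : ∀ y, (ψ y).map δ = lam * LocRes.D F' (ψ y) := fun y => sub_eq_zero.mp
    (leibniz_eq_zero (k := k) (K := K') (ψ : K' →+* LaurentSeries F') f (fun p q => by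
      show (ψ (p * q)).map δ - lam * LocRes.D F' (ψ (p * q)) =
        ψ p * ((ψ q).map δ - lam * LocRes.D F' (ψ q)) + ψ q * ((ψ p).map δ - lam * LocRes.D F' (ψ p))
      rw [map_mul, map_der_leibniz, Derivation.leibniz, smul_eq_mul, smul_eq_mul]
      ring) (fun c => by
      show (ψ _).map δ - lam * LocRes.D F' (ψ _) = 0
      rw [show LocRes.D F' (ψ (algebraMap k K' c)) = 0 from dExp_const ψ c, mul_zero, sub_zero,
        LocRes.map_algebraMap]
      ext n
      rw [HahnSeries.map_coeff, HahnSeries.C_apply, HahnSeries.coeff_zero]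
      rcases eq_or_ne n 0 with rfl | hn
      · rw [HahnSeries.coeff_single_same, Derivation.map_algebraMap]
      · rw [HahnSeries.coeff_single_of_ne hn, map_zero]) hsep
      (show (ψ x').map δ - lam * LocRes.D F' (ψ x') = 0 by rw [div_mul_cancel₀ _ hDx, sub_self]) y)
  obtain ⟨t, ht⟩ := hψ.2.2
  obtain ⟨ht1, -⟩ := coeff_dExp_unif hψ ht
  have hlam : Low lam 1 := by
    rw [low_iff_val]
    have h1 : Valued.v ((ψ t).map δ) ≤ exp (-1 : ℤ) := (low_iff_val _ _).mp fun i hi => by
      rw [HahnSeries.map_coeff, ht1 i hi, map_zero]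
    have h2 := vDiff_unif hψ ht
    rw [vDiff_one] at h2
    rwa [hf t, map_mul, h2, mul_one] at h1
  obtain ⟨y, hy, hya⟩ := hψ.2.1 a
  refine hδa ?_
  have h := congrArg (fun z => z.coeff 0) (hf y)
  simp only [HahnSeries.map_coeff, hya] at h
  rw [h]
  exact (hlam.mul (low_deriv_zero ((low_map_zero_iff hψ y).mpr hy))) 0 (by norm_num)

/-- The residue field embeds into the coefficient field. -/
theorem exists_res_algHom (hψ : LocRes.IsExpansionAt Q.1 ψ) : Nonempty (Res Q →ₐ[k] F') := by
  let c0 : Q.O →+* F' :=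
    { toFun := fun z => (ψ z.1).coeff 0
      map_one' := by show (ψ 1).coeff 0 = 1; rw [map_one, HahnSeries.coeff_one, if_pos rfl]
      map_mul' := fun a b => by
        show (ψ (a.1 * b.1)).coeff 0 = _
        rw [map_mul]
        exact coeff_zero_mul ((low_map_zero_iff hψ _).mpr a.2) ((low_map_zero_iff hψ _).mpr b.2)
      map_zero' := by show (ψ 0).coeff 0 = 0; rw [map_zero, HahnSeries.coeff_zero]
      map_add' := fun a b => by show (ψ (a.1 + b.1)).coeff 0 = _; rw [map_add, HahnSeries.coeff_add] }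
  have hker : ∀ a ∈ IsLocalRing.maximalIdeal Q.O, c0 a = 0 := fun a ha => by
    have h : Q.1 a.1 < 1 := (residue_eq_zero Q a).mp (Ideal.Quotient.eq_zero_iff_mem.mpr ha)
    exact (low_map_iff hψ a.1 1).mpr ((le_exp_neg_one_iff Q).mpr h) 0 one_pos
  refine ⟨{ Ideal.Quotient.lift _ c0 hker with commutes' := fun c => ?_ }⟩
  show (ψ (algebraMap k K' c)).coeff 0 = algebraMap k F' c
  rw [LocRes.map_algebraMap, HahnSeries.C_apply, HahnSeries.coeff_single_same]

theorem isSeparable_res [FiniteDimensional K K'] [Algebra.IsSeparable K K']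
    (hK : IsFunctionField k K) (hg : IsGeometric k K) (hψ : LocRes.IsExpansionAt Q.1 ψ) {x : K}
    (hx : KaehlerDifferential.D k K x ≠ 0) (hx' : LocRes.vDiff ψ 1 (algebraMap K K' x) ≠ 0) :
    Algebra.IsSeparable k (Res Q) := by
  haveI := isSeparable_coeffField hK hg hψ hx hx'
  obtain ⟨r⟩ := exists_res_algHom hψ
  exact Algebra.IsSeparable.of_algHom k F' r

/-- Differentiating the value of a polynomial. -/
theorem deriv_eval {L : Type*} [CommRing L] (g : K' →+* L) (f : K' →+ L)
    (hmul : ∀ a b, f (a * b) = g a * f b + g b * f a) (p : K'[X]) (c : K') :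
    f (p.eval c) = p.sum (fun i a => g (c ^ i) * f a) + g ((derivative p).eval c) * f c := by
  have hone : f 1 = 0 := by
    have := hmul 1 1
    rw [mul_one, g.map_one, one_mul, left_eq_add] at this
    exact this
  induction p using Polynomial.induction_on' with
  | add p q hp hq =>
    rw [eval_add, map_add, hp, hq, Polynomial.sum_add_index p q _ (fun i => by simp) (fun i a b => by
      rw [map_add, mul_add]), derivative_add, eval_add, map_add]
    ring
  | monomial n a =>
    rw [eval_monomial, Polynomial.sum_monomial_index _ (fun i a => g (c ^ i) * f a) (by simp),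
      derivative_monomial, eval_monomial, hmul]
    have hp : ∀ m : ℕ, f (c ^ m) = (m : L) * g c ^ (m - 1) * f c := by
      intro m
      induction m with
      | zero => simp [hone]
      | succ m ih =>
        rw [pow_succ, hmul, ih, map_pow]
        rcases m with _ | m
        · simp
        · simp only [Nat.add_sub_cancel]; push_cast; ring
    rw [hp, map_mul, map_mul, map_natCast, map_pow, map_pow]
    ring

theorem fixed_lt_one_le [FiniteDimensional K K'] [IsGalois K K'] [Algebra.IsSeparable k (Res Q)]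
    (hF : IsFF k K) {P : Place k K} {e : ℕ} (he : IsOverWith Q P e) {c : K'}
    (hfix : ∀ σ ∈ ramGroup K Q 1, σ c = c) (hc : Q.1 c < 1) : Q.1 c ≤ exp (-(e : ℤ)) := by
  set E := IntermediateField.fixedField (ramGroup K Q 1)
  obtain ⟨Q₁, e₁, h₁, -⟩ := exists_below hF E Q
  have hee : e₁ = e := by
    rw [← card_inertia_over hF E h₁, IntermediateField.fixingSubgroup_fixedField, inf_idem, card_inertia hF he]
  have hcE : c ∈ E := fun σ => hfix σ.1 σ.2
  have h := h₁ ⟨c, hcE⟩
  change Q.1 c = Q₁.1 ⟨c, hcE⟩ ^ e₁ at h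
  rw [h] at hc ⊢
  have h2 : Q₁.1 ⟨c, hcE⟩ < 1 := by
    by_contra hle
    exact hc.not_ge (one_le_pow_of_one_le' (not_lt.mp hle) e₁)
  refine (pow_le_pow_left' (((lt_exp_iff_le_exp_pred Q₁ _ 0).mp (by rwa [exp_zero])).trans (le_of_eq (show exp (0 - 1 : ℤ) = exp (-1 : ℤ) by norm_num))) e₁).trans ?_
  rw [← exp_nsmul, exp_le_exp, hee, nsmul_eq_mul]
  omega

/-- Elements fixed by inertia have small differential. -/
theorem vD_fixed_le [FiniteDimensional K K'] [IsGalois K K'] [Algebra.IsSeparable k (Res Q)]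
    (hF : IsFF k K) (hψ : LocRes.IsExpansionAt Q.1 ψ) {P : Place k K} {e : ℕ} (he : IsOverWith Q P e)
    {tP : K} (htP : P.1 tP = exp (-1 : ℤ)) (N : ℕ) :
    ∀ c : K', (∀ σ ∈ ramGroup K Q 1, σ c = c) → Q.1 c ≤ 1 →
      Valued.v (LocRes.D F' (ψ c)) ≤
        max (Valued.v (LocRes.D F' (ψ (algebraMap K K' tP)))) (exp (-(N : ℤ))) := by
  set t := algebraMap K K' tP
  have he1 := over_pos hF he
  have ht : Q.1 t = exp (-(e : ℤ)) := by rw [he, htP, ← exp_nsmul, nsmul_eq_mul]; congr 1; ring
  have ht0 : t ≠ 0 := fun h => by rw [h, map_zero] at ht; exact exp_ne_zero ht.symm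
  induction N with
  | zero =>
    intro c _ hc
    refine le_max_of_le_right ?_
    rw [Nat.cast_zero, neg_zero, exp_zero]
    have := (low_iff_val _ 0).mp (low_deriv_zero ((low_map_zero_iff hψ c).mpr hc))
    rwa [neg_zero, exp_zero] at this
  | succ N ih =>
    intro c hfix hc
    set a : Res Q := resHom Q ⟨c, hc⟩
    set m := minpoly k a
    have hsep : (minpoly k a).Separable := Algebra.IsSeparable.isSeparable k a
    set y := aeval c m
    set w := aeval c (derivative m)
    have ev : ∀ p : k[X], ((aeval (⟨c, hc⟩ : Q.O) p : Q.O) : K') = aeval c p := fun p =>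
      (aeval_algHom_apply (valHom Q) (⟨c, hc⟩ : Q.O) p).symm
    have er : ∀ p : k[X], IsLocalRing.residue Q.O (aeval (⟨c, hc⟩ : Q.O) p) = aeval a p := fun p =>
      (aeval_algHom_apply (resHom Q) (⟨c, hc⟩ : Q.O) p).symm
    have hy : Q.1 y < 1 := by
      rw [show y = ((aeval (⟨c, hc⟩ : Q.O) m : Q.O) : K') from (ev m).symm, ← residue_eq_zero, er]
      exact minpoly.aeval k a
    have hw : Q.1 w = 1 := by
      rw [show w = ((aeval (⟨c, hc⟩ : Q.O) (derivative m) : Q.O) : K') from (ev _).symm]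
      refine le_antisymm (aeval (⟨c, hc⟩ : Q.O) (derivative m) : Q.O).2 (not_lt.mp fun h => ?_)
      rw [← residue_eq_zero, er] at h
      exact hsep.aeval_derivative_ne_zero (minpoly.aeval k a) h
    have hyfix : ∀ σ ∈ ramGroup K Q 1, σ y = y := fun σ hσ => by
      show σ (aeval c m) = aeval c m
      have := (aeval_algHom_apply (σ.restrictScalars k) c m).symm
      simp only [AlgEquiv.restrictScalars_apply, hfix σ hσ] at this
      exact this
    have hye : Q.1 y ≤ exp (-(e : ℤ)) := fixed_lt_one_le hF he hyfix hy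
    have hufix : ∀ σ ∈ ramGroup K Q 1, σ (y / t) = y / t := fun σ hσ => by
      rw [map_div₀, hyfix σ hσ]; exact congrArg _ (σ.commutes tP)
    have hu : Q.1 (y / t) ≤ 1 := by
      rw [map_div₀, ht, div_le_one₀ (zero_lt_iff.mpr exp_ne_zero)]; exact hye
    have hD : ψ w * LocRes.D F' (ψ c) = ψ (y / t) * LocRes.D F' (ψ t) + ψ t * LocRes.D F' (ψ (y / t)) := by
      let f : K' →+ LaurentSeries F' :=
        AddMonoidHom.mk' (fun z => LocRes.D F' (ψ z)) fun p q => by rw [map_add, map_add]
      have hmul : ∀ p q, f (p * q) = ψ p * f q + ψ q * f p := fun p q => by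
        show LocRes.D F' (ψ (p * q)) = _
        rw [map_mul, Derivation.leibniz, smul_eq_mul, smul_eq_mul]; rfl
      have h := deriv_eval (ψ : K' →+* LaurentSeries F') f hmul (m.map (algebraMap k K')) c
      rw [eval_map_algebraMap, derivative_map, eval_map_algebraMap,
        Polynomial.sum_def, Finset.sum_eq_zero, zero_add] at h
      · refine h.symm.trans ?_
        show LocRes.D F' (ψ y) = _
        conv_lhs => rw [← mul_div_cancel₀ y ht0]
        rw [map_mul, Derivation.leibniz, smul_eq_mul, smul_eq_mul, add_comm]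
      · intro i _
        show _ * LocRes.D F' (ψ _) = 0
        rw [coeff_map, show LocRes.D F' (ψ (algebraMap k K' (m.coeff i))) = 0 from dExp_const ψ _, mul_zero]
    have h2 := congrArg Valued.v hD
    rw [map_mul, hψ.1, hw, one_mul] at h2
    rw [h2]
    refine (Valuation.map_add _ _ _).trans (max_le ?_ ?_)
    · rw [map_mul, hψ.1]; exact le_max_of_le_left (mul_le_of_le_one_left' hu)
    · rw [map_mul, hψ.1]
      refine (mul_le_mul' ht.le (ih _ hufix hu)).trans ?_
      rcases le_total (Valued.v (LocRes.D F' (ψ t))) (exp (-(N : ℤ))) with h | h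
      · rw [max_eq_right h]
        refine le_max_of_le_right ?_
        rw [← exp_add, exp_le_exp]; push_cast; omega
      · rw [max_eq_left h]
        refine le_max_of_le_left (mul_le_of_le_one_left' ?_)
        rw [← exp_zero, exp_le_exp]; omega

theorem hilbert_different [FiniteDimensional K K'] [IsGalois K K'] (hK : IsFunctionField k K)
    (hg : IsGeometric k K) {F : Type w} [Field F] [Algebra k F] {φ : K →ₐ[k] LaurentSeries F}
    {P : Place k K} {e : ℕ} (he : IsOverWith Q P e) (hφ : LocRes.IsExpansionAt P.1 φ)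
    (hψ : LocRes.IsExpansionAt Q.1 ψ) {x : K} (hx : LocRes.vDiff φ 1 x ≠ 0)
    (hx' : LocRes.vDiff ψ 1 (algebraMap K K' x) ≠ 0) :
    ∃ N : ℕ, (∀ i, N < i → Nat.card (ramGroup K Q i) = 1) ∧
      LocRes.diffExp φ ψ e x = ∑ i ∈ Finset.Icc 1 N, ((Nat.card (ramGroup K Q i) : ℤ) - 1) := by
  classical
  haveI := isSeparable_res hK hg hψ (D_ne_of_vDiff hx) hx'
  have he1 := over_pos hK.1 he
  obtain ⟨tP, htP⟩ := hφ.2.2
  obtain ⟨hd, hDt0⟩ := diffExp_eq_unif he hφ hψ hK hg hx hx' htP
  rw [hd, LocRes.ordDiff]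
  set t := algebraMap K K' tP
  rw [vDiff_one] at hDt0 ⊢
  set V := Valued.v (LocRes.D F' (ψ t))
  have hfixle : ∀ c : K', (∀ σ ∈ ramGroup K Q 1, σ c = c) → Q.1 c ≤ 1 →
      Valued.v (LocRes.D F' (ψ c)) ≤ V := fun c hfix hc => by
    have h := vD_fixed_le hK.1 hψ he htP (-(log V)).toNat c hfix hc
    rwa [max_eq_left] at h
    change exp _ ≤ V
    rw [← exp_log hDt0, exp_le_exp]
    simp only [log_exp]; omega
  have ht : Q.1 t = exp (-(e : ℤ)) := by rw [he, htP, ← exp_nsmul, nsmul_eq_mul]; congr 1; ring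
  have ht0 : t ≠ 0 := fun h => by rw [h, map_zero] at ht; exact exp_ne_zero ht.symm
  have hfixm : ∀ c : K', (∀ σ ∈ ramGroup K Q 1, σ c = c) → Q.1 c < 1 →
      Valued.v (LocRes.D F' (ψ c)) ≤ V ∧ (Q.1 c = exp (-(e : ℤ)) → Valued.v (LocRes.D F' (ψ c)) = V) := by
    intro c hfix hc
    refine ⟨hfixle c hfix hc.le, fun hce => ?_⟩
    have hufix : ∀ σ ∈ ramGroup K Q 1, σ (c / t) = c / t := fun σ hσ => by
      rw [map_div₀, hfix σ hσ]; exact congrArg _ (σ.commutes tP)
    have hu : Q.1 (c / t) = 1 := by rw [map_div₀, hce, ht, div_self exp_ne_zero]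
    have hb := hfixle _ hufix hu.le
    rw [← mul_div_cancel₀ c ht0, map_mul, Derivation.leibniz, smul_eq_mul, smul_eq_mul, add_comm]
    have h1 : Valued.v (ψ (c / t) * LocRes.D F' (ψ t)) = V := by rw [map_mul, hψ.1, hu, one_mul]
    rw [Valuation.map_add_eq_of_lt_left _ ?_, h1]
    rw [h1, map_mul, hψ.1, ht]
    refine (mul_le_mul' le_rfl hb).trans_lt ?_
    rw [← exp_log hDt0, ← exp_add, exp_lt_exp]; omega
  -- a uniformiser and the Eisenstein polynomial
  obtain ⟨s, hs0, hs⟩ := exists_unif Q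
  let I : Finset (K' ≃ₐ[K] K') := Finset.univ.filter (· ∈ ramGroup K Q 1)
  have hI : ∀ σ, σ ∈ I ↔ σ ∈ ramGroup K Q 1 := fun σ => by simp [I]
  have hIe : I.card = e := by
    rw [← card_inertia hK.1 he, Nat.card_eq_fintype_card, Fintype.card_subtype]
  have h1I : (1 : K' ≃ₐ[K] K') ∈ I := (hI 1).mpr (one_mem _)
  set g : K'[X] := ∏ σ ∈ I, (X - C (σ s))
  have hgfix : ∀ i, ∀ τ ∈ ramGroup K Q 1, τ (g.coeff i) = g.coeff i := fun i τ hτ => by
    have h : g.map (τ : K' →+* K') = g := by
      rw [Polynomial.map_prod]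
      simp only [Polynomial.map_sub, map_X, map_C]
      refine Finset.prod_equiv (Equiv.mulLeft τ) (fun σ => ?_) fun σ _ => rfl
      rw [hI, hI]
      exact (Subgroup.mul_mem_cancel_left _ hτ).symm
    conv_rhs => rw [← h, coeff_map]
    rfl
  have hgdeg : g.natDegree = e := by
    rw [natDegree_prod_of_monic _ _ fun σ _ => monic_X_sub_C _]
    simp [hIe]
  have hgm : g.Monic := monic_prod_of_monic _ _ fun σ _ => monic_X_sub_C _
  have hsv : ∀ σ ∈ I, Q.1 (σ s) = exp (-1 : ℤ) := fun σ hσ => by rw [((hI σ).mp hσ).1, hs]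
  have hs1 : Q.1 s < 1 := (le_exp_neg_one_iff Q).mp hs.le
  have hlow : ∀ i < e, Q.1 (g.coeff i) < 1 := by
    intro i hi
    let gO : Q.O[X] := ∏ σ ∈ I.attach, (X - C ⟨σ.1 s, by rw [mem_O_iff, hsv σ.1 σ.2]; rw [← hs]; exact hs1.le⟩)
    have e1 : gO.map Q.O.subtype = g := by
      simp only [gO, Polynomial.map_prod, Polynomial.map_sub, map_X, map_C]
      exact Finset.prod_attach I fun σ => (X - C (σ s))
    have e2 : gO.map (IsLocalRing.residue Q.O) = X ^ e := by
      simp only [gO, Polynomial.map_prod, Polynomial.map_sub, map_X, map_C]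
      rw [Finset.prod_eq_pow_card (b := X), Finset.card_attach, hIe]
      intro σ _
      rw [(residue_eq_zero Q _).mpr (show Q.1 (σ.1 s) < 1 by rw [hsv σ.1 σ.2, ← hs]; exact hs1),
        map_zero, sub_zero]
    have := congrArg (fun p => p.coeff i) e2
    simp only [coeff_map, coeff_X_pow, hi.ne, if_false] at this
    rw [residue_eq_zero] at this
    rw [← e1, coeff_map]
    exact this
  have hc0 : Q.1 (g.coeff 0) = exp (-(e : ℤ)) := by
    rw [coeff_zero_eq_eval_zero, eval_prod, map_prod,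
      Finset.prod_congr rfl (fun σ hσ => by
        rw [eval_sub, eval_X, eval_C, zero_sub, Valuation.map_neg, hsv σ hσ]),
      Finset.prod_const, hIe, ← exp_nsmul, nsmul_eq_mul]
    congr 1; ring
  -- differentiate `g s = 0`
  have hgs : g.eval s = 0 := by
    rw [eval_prod]
    exact Finset.prod_eq_zero h1I (by simp)
  let f : K' →+ LaurentSeries F' :=
    AddMonoidHom.mk' (fun z => LocRes.D F' (ψ z)) fun p q => by rw [map_add, map_add]
  have hmul : ∀ p q, f (p * q) = ψ p * f q + ψ q * f p := fun p q => by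
    show LocRes.D F' (ψ (p * q)) = _
    rw [map_mul, Derivation.leibniz, smul_eq_mul, smul_eq_mul]; rfl
  have hder := deriv_eval (ψ : K' →+* LaurentSeries F') f hmul g s
  simp only [RingHom.coe_coe] at hder
  rw [hgs, map_zero] at hder
  have hsum : Valued.v (g.sum fun i a => ψ (s ^ i) * f a) = V := by
    rw [sum_over_range _ (fun i => by simp), hgdeg, ← Finset.add_sum_erase _ _ (Finset.mem_range.mpr (Nat.succ_pos e))]
    have h00 : Valued.v (ψ (s ^ 0) * f (g.coeff 0)) = V := by
      rw [pow_zero, map_one, one_mul]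
      exact (hfixm _ (hgfix 0) (hlow 0 he1)).2 hc0
    rw [Valuation.map_add_eq_of_lt_left _ ?_, h00]
    rw [h00]
    refine Valuation.map_sum_lt _ hDt0 fun i hi => ?_
    rw [Finset.mem_erase, Finset.mem_range] at hi
    rcases eq_or_lt_of_le (Nat.lt_succ_iff.mp hi.2) with rfl | hlt
    · rw [← hgdeg, coeff_natDegree, hgm.leadingCoeff]
      show Valued.v (_ * LocRes.D F' (ψ 1)) < V
      rw [map_one, Derivation.map_one_eq_zero, mul_zero, map_zero]
      exact zero_lt_iff.mpr hDt0
    · rw [map_mul, hψ.1, map_pow]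
      refine lt_of_le_of_lt (mul_le_mul' le_rfl (hfixm _ (hgfix i) (hlow i hlt)).1) ?_
      exact mul_lt_of_lt_one_left (zero_lt_iff.mpr hDt0) (pow_lt_one' hs1 hi.1)
  have hDs : Valued.v (f s) = 1 := by
    have h := vDiff_unif hψ hs
    rwa [vDiff_one] at h
  have hval : Q.1 ((derivative g).eval s) = V := by
    have h := eq_neg_of_add_eq_zero_right hder.symm
    replace h := congrArg Valued.v h
    rw [map_mul, Valuation.map_neg, hsum, hDs, mul_one] at h
    rw [← h]
    exact (hψ.1 _).symm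
  have hprod : (derivative g).eval s = ∏ σ ∈ I.erase 1, (s - σ s) := by
    rw [show g = (X - C s) * ∏ σ ∈ I.erase 1, (X - C (σ s)) from
      (Finset.mul_prod_erase I (fun σ => (X - C (σ s))) h1I).symm, derivative_mul]
    simp [eval_prod]
  -- the numbers `i(σ)`
  have hne : ∀ σ ∈ I.erase 1, s - σ s ≠ 0 := fun σ hσ h => by
    rw [Finset.mem_erase, hI] at hσ
    refine hσ.1 (AlgEquiv.ext fun z => ?_)
    have hall : ∀ z, Q.1 z ≤ 1 → σ z = z := fun z hz => by
      by_contra hzz
      obtain ⟨j, hj⟩ : ∃ j : ℕ, exp (-((j : ℤ) + 1)) < Q.1 (σ z - z) :=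
        ⟨(-log (Q.1 (σ z - z))).toNat, by
          rw [← exp_log (val_ne_zero Q (sub_ne_zero.mpr hzz)), exp_lt_exp, log_exp]; omega⟩
      have := ((mem_ramGroup_iff_unif hσ.2 hs (j := j + 1) (by omega)).mpr (by
        rw [← neg_sub, h, neg_zero, map_zero]; exact zero_le)).2 z hz
      push_cast at this
      exact hj.not_ge this
    rw [AlgEquiv.one_apply]
    rcases le_total (Q.1 z) 1 with hz | hz
    · exact hall z hz
    · have h' := hall z⁻¹ (by rw [map_inv₀]; exact inv_le_one_of_one_le₀ hz)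
      rwa [map_inv₀, inv_inj] at h'
  let n : (K' ≃ₐ[K] K') → ℕ := fun σ => (Q.ord (s - σ s)).toNat
  have hn1 : ∀ σ ∈ I.erase 1, 0 ≤ Q.ord (s - σ s) := fun σ hσ => by
    have h := ((hI σ).mp (Finset.mem_of_mem_erase hσ)).2 s hs1.le
    rw [Valuation.map_sub_swap, val_le_exp_iff Q (hne σ hσ)] at h
    omega
  have hmem : ∀ σ ∈ I.erase 1, ∀ i, 1 ≤ i → (σ ∈ ramGroup K Q i ↔ i ≤ n σ) := fun σ hσ i hi => by
    rw [mem_ramGroup_iff_unif ((hI σ).mp (Finset.mem_of_mem_erase hσ)) hs hi, Valuation.map_sub_swap,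
      val_le_exp_iff Q (hne σ hσ)]
    have := hn1 σ hσ
    simp only [n]; omega
  have hcard : ∀ i, 1 ≤ i → (Nat.card (ramGroup K Q i) : ℤ) - 1 = ∑ σ ∈ I.erase 1, if i ≤ n σ then 1 else 0 := by
    intro i hi
    rw [Nat.card_eq_fintype_card, Fintype.card_subtype, ← Finset.card_erase_add_one
      (show (1 : K' ≃ₐ[K] K') ∈ Finset.univ.filter (· ∈ ramGroup K Q i) by simp)]
    push_cast
    rw [add_sub_cancel_right, Finset.sum_boole]
    congr 2
    ext σ
    simp only [Finset.mem_erase, Finset.mem_filter, Finset.mem_univ, true_and]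
    refine ⟨fun h => ?_, fun h => ⟨h.1.1, (hmem σ (Finset.mem_erase.mpr h.1) i hi).mpr h.2⟩⟩
    have hσI : σ ∈ I.erase 1 := Finset.mem_erase.mpr ⟨h.1, (hI σ).mpr (ramGroup_antitone Q hi h.2)⟩
    exact ⟨Finset.mem_erase.mp hσI, (hmem σ hσI i hi).mp h.2⟩
  refine ⟨(I.erase 1).sup n, fun i hi => ?_, ?_⟩
  · have h := hcard i (by omega)
    rw [Finset.sum_eq_zero fun σ hσ => if_neg (fun hle => by
      have := Finset.le_sup (f := n) hσ; omega)] at h
    omega
  rw [Finset.sum_congr rfl fun i hi => hcard i (Finset.mem_Icc.mp hi).1, Finset.sum_comm]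
  have hterm : ∀ σ ∈ I.erase 1, (∑ i ∈ Finset.Icc 1 ((I.erase 1).sup n), if i ≤ n σ then (1 : ℤ) else 0) = Q.ord (s - σ s) := by
    intro σ hσ
    have hle := Finset.le_sup (f := n) hσ
    rw [Finset.sum_boole, show (Finset.Icc 1 ((I.erase 1).sup n)).filter (· ≤ n σ) = Finset.Icc 1 (n σ) by
      ext i; simp only [Finset.mem_filter, Finset.mem_Icc]; omega, Nat.card_Icc]
    have := hn1 σ hσ
    simp only [n]; omega
  rw [Finset.sum_congr rfl hterm]
  have hV : V = exp (-∑ σ ∈ I.erase 1, Q.ord (s - σ s)) := by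
    rw [← hval, hprod, map_prod, Finset.prod_congr rfl fun σ hσ => val_eq_exp Q (hne σ hσ)]
    clear hterm hval hprod
    induction I.erase 1 using Finset.induction_on with
    | empty => simp
    | insert a T ha ih => rw [Finset.prod_insert ha, Finset.sum_insert ha, ih, ← exp_add]; congr 1; ring
  rw [hV, log_exp, neg_neg]

end Groth.Agent.FFLib
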