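import Groth.Agent.FFLib.Galois
import Mathlib.FieldTheory.PrimitiveElement

/-! Inertia and ramification groups of a place in a Galois extension. -/

set_option linter.unusedSectionVars false
set_option linter.style.haveILetI false

namespace Groth.Agent.FFLib

open FunFld WithZero Polynomial
open scoped Pointwise

variable {k K K' : Type*} [Field k] [Field K] [Field K'] [Algebra k K] [Algebra K K'] [Algebra k K']
  [IsScalarTower k K K']

variable (K) in
/-- The lower numbering filtration; index `0` is the decomposition group, index `1` inertia. -/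
def ramGroup (Q : Place k K') (i : ℕ) : Subgroup (K' ≃ₐ[K] K') where
  carrier := {σ | (∀ x, Q.1 (σ x) = Q.1 x) ∧ ∀ x, Q.1 x ≤ 1 → Q.1 (σ x - x) ≤ exp (-(i : ℤ))}
  one_mem' := ⟨fun _ => rfl, fun x _ => by simp⟩
  mul_mem' {σ τ} hσ hτ := ⟨fun x => by rw [AlgEquiv.mul_apply, hσ.1, hτ.1], fun x hx => by
    rw [AlgEquiv.mul_apply, ← sub_add_sub_cancel (σ (τ x)) (τ x) x]
    exact (Q.1.map_add _ _).trans (max_le (hσ.2 _ (by rwa [hτ.1])) (hτ.2 x hx))⟩
  inv_mem' {σ} hσ := by
    have h1 : ∀ x, Q.1 (σ⁻¹ x) = Q.1 x := fun x => by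
      conv_rhs => rw [← σ.apply_symm_apply x, hσ.1]
      rfl
    refine ⟨h1, fun x hx => ?_⟩
    have := hσ.2 (σ⁻¹ x) (by rwa [h1])
    rwa [show σ (σ⁻¹ x) = x from σ.apply_symm_apply x, Valuation.map_sub_swap] at this

theorem le_exp_neg_one_iff (Q : Place k K') {z : K'} : Q.1 z ≤ exp (-1 : ℤ) ↔ Q.1 z < 1 := by
  rcases eq_or_ne z 0 with rfl | hz
  · simp
  rw [val_le_exp_iff Q hz, val_lt_one_iff Q hz]; omega

theorem map_eq_of_integral {Q : Place k K'} {σ : K' ≃ₐ[K] K'}
    (h : ∀ x, Q.1 x ≤ 1 → Q.1 (σ x) ≤ 1) (x : K') : Q.1 (σ x) = Q.1 x := by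
  have := place_eq_of_le (P := Q) (Q := placeComap (σ.restrictScalars k) Q) fun x hx => h x hx
  conv_rhs => rw [this]
  rfl

theorem mem_ramGroup_iff {Q : Place k K'} {σ : K' ≃ₐ[K] K'} {i : ℕ} :
    σ ∈ ramGroup K Q i ↔ ∀ x, Q.1 x ≤ 1 → Q.1 (σ x - x) ≤ exp (-(i : ℤ)) := by
  refine ⟨fun h => h.2, fun h => ⟨map_eq_of_integral fun x hx => ?_, h⟩⟩
  rw [← sub_add_cancel (σ x) x]
  exact (Q.1.map_add _ _).trans (max_le ((h x hx).trans (by
    rw [← exp_zero, exp_le_exp]; omega)) hx)

theorem ramGroup_antitone (Q : Place k K') : Antitone (ramGroup K Q) := fun i j hij σ hσ =>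
  ⟨hσ.1, fun x hx => (hσ.2 x hx).trans (exp_le_exp.mpr (by omega))⟩

theorem mem_decomposition_iff {Q : Place k K'} {σ : K' ≃ₐ[K] K'} :
    σ ∈ (Q.O).decompositionSubgroup K ↔ ∀ x, Q.1 (σ x) = Q.1 x := by
  refine ⟨fun h => map_eq_of_integral fun x hx => ?_, fun h => ?_⟩
  · have h' : σ • (⟨x, hx⟩ : Q.O).1 ∈ σ • Q.O := ValuationSubring.smul_mem_pointwise_smul σ x Q.O hx
    rw [show σ • Q.O = Q.O from h] at h'
    exact h'
  · show σ • Q.O = Q.O
    ext x
    rw [ValuationSubring.mem_pointwise_smul_iff_inv_smul_mem, mem_O_iff, mem_O_iff]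
    have := h (σ⁻¹ x)
    rw [show σ (σ⁻¹ x) = x from σ.apply_symm_apply x] at this
    rw [this]
    rfl

theorem mem_inertia_iff {Q : Place k K'} {σ : (Q.O).decompositionSubgroup K} :
    σ ∈ (Q.O).inertiaSubgroup K ↔ (σ : K' ≃ₐ[K] K') ∈ ramGroup K Q 1 := by
  rw [mem_ramGroup_iff]
  simp only [Nat.cast_one, le_exp_neg_one_iff]
  refine ⟨fun h x hx => ?_, fun h => RingEquiv.ext fun r => ?_⟩
  · have hh := DFunLike.congr_fun (show MulSemiringAction.toRingAut _ (Res Q) σ = 1 from h)
      (IsLocalRing.residue Q.O ⟨x, hx⟩)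
    have e : IsLocalRing.residue Q.O (σ • (⟨x, hx⟩ : Q.O) - ⟨x, hx⟩) = 0 := by
      rw [map_sub, IsLocalRing.ResidueField.residue_smul, sub_eq_zero]
      exact hh
    exact (residue_eq_zero Q _).mp e
  · obtain ⟨x, rfl⟩ := IsLocalRing.residue_surjective r
    show σ • IsLocalRing.residue Q.O x = IsLocalRing.residue Q.O x
    rw [← IsLocalRing.ResidueField.residue_smul, ← sub_eq_zero, ← map_sub, residue_eq_zero]
    exact h x.1 x.2

theorem map_inertia (Q : Place k K') :
    ((Q.O).inertiaSubgroup K).map ((Q.O).decompositionSubgroup K).subtype = ramGroup K Q 1 := by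
  ext σ
  refine ⟨fun ⟨τ, hτ, e⟩ => e ▸ mem_inertia_iff.mp hτ, fun h => ?_⟩
  exact ⟨⟨σ, mem_decomposition_iff.mpr h.1⟩, mem_inertia_iff.mpr h, rfl⟩

theorem natCard_inertia (Q : Place k K') :
    Nat.card ((Q.O).inertiaSubgroup K) = Nat.card (ramGroup K Q 1) := by
  rw [← map_inertia Q]
  exact Nat.card_congr (Subgroup.equivMapOfInjective _ _
    ((Q.O).decompositionSubgroup K).subtype_injective).toEquiv

theorem card_decomposition (hF : IsFF k K) [FiniteDimensional K K'] [IsGalois K K']
    {Q : Place k K'} {P : Place k K} {e : ℕ} (he : IsOverWith Q P e) :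
    Nat.card ((Q.O).decompositionSubgroup K) * P.deg = e * Q.deg := by
  have h1 := card_over_mul_stabilizer hF (Q := Q) (P := P) ⟨e, he⟩
  have h2 := card_over_mul_ram_deg hF he
  rw [← h1, mul_assoc] at h2
  refine (Nat.eq_of_mul_eq_mul_left ?_ h2).symm
  exact Nat.pos_of_ne_zero fun h0 => by
    rw [h0, zero_mul] at h1
    exact absurd h1.symm (Module.finrank_pos (R := K) (M := K')).ne'

theorem tower_facts (k A B : Type*) [Field k] [Field A] [Field B] [Algebra k A] [Algebra A B]
    [Algebra k B] [IsScalarTower k A B] (_ : FiniteDimensional k B) :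
    FiniteDimensional A B ∧ Module.finrank k B = Module.finrank k A * Module.finrank A B :=
  ⟨Module.Finite.of_restrictScalars_finite k A B, (Module.finrank_mul_finrank k A B).symm⟩

/-- The decomposition group modulo inertia has order the residue degree. -/
theorem card_decomposition_eq (hF : IsFF k K) [FiniteDimensional K K'] [IsGalois K K']
    {Q : Place k K'} {P : Place k K} {e : ℕ} (he : IsOverWith Q P e)
    [Algebra.IsSeparable k (Res Q)] :
    Nat.card ((Q.O).decompositionSubgroup K) * P.deg =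
      Nat.card ((Q.O).inertiaSubgroup K) * Q.deg := by
  classical
  have he1 := over_pos hF he
  let f0 : P.O →+* Q.O := ((algebraMap K K').comp P.O.subtype).codRestrict Q.O fun a => by
    show Q.1 (algebraMap K K' a.1) ≤ 1
    rw [he]; exact pow_le_one' a.2 e
  letI : Algebra P.O Q.O := f0.toAlgebra
  haveI : IsScalarTower k P.O Q.O := IsScalarTower.of_algebraMap_eq fun c => Subtype.ext (by
    show algebraMap k K' c = algebraMap K K' (algebraMap k K c)
    rw [← IsScalarTower.algebraMap_apply])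
  haveI : IsLocalHom (algebraMap P.O Q.O) := ⟨fun a ha => by
    by_contra hna
    have h1 : P.1 a.1 < 1 := Valuation.Integer.not_isUnit_iff_valuation_lt_one.mp hna
    refine Valuation.Integer.not_isUnit_iff_valuation_lt_one.mpr ?_ ha
    show Q.1 (algebraMap K K' a.1) < 1
    rw [he]; exact pow_lt_one' h1 (by omega)⟩
  letI : Algebra (Res P) (Res Q) := (IsLocalRing.ResidueField.map (algebraMap P.O Q.O)).toAlgebra
  letI : Module (Res P) (Res Q) := Algebra.toModule
  have hres : ∀ a : P.O, algebraMap (Res P) (Res Q) (IsLocalRing.residue P.O a) =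
      IsLocalRing.residue Q.O (algebraMap P.O Q.O a) := fun _ => rfl
  haveI : IsScalarTower k (Res P) (Res Q) := IsScalarTower.of_algebraMap_eq fun c => by
    rw [residue_algebraMap, residue_algebraMap, hres, ← IsScalarTower.algebraMap_apply]
  haveI := residue_finite hF P
  haveI := residue_finite (IsFF.ext (K' := K') hF) Q
  obtain ⟨_, hdim⟩ := tower_facts k (Res P) (Res Q) (residue_finite (IsFF.ext (K' := K') hF) Q)
  haveI : Algebra.IsSeparable (Res P) (Res Q) := Algebra.isSeparable_tower_top_of_isSeparable k (Res P) (Res Q)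
  set D := (Q.O).decompositionSubgroup K
  obtain ⟨θ, hθ0, hθ⟩ : ∃ θ : Res Q, θ ≠ 0 ∧ IntermediateField.adjoin (Res P) {θ} = ⊤ := by
    obtain ⟨θ, hθ⟩ := Field.exists_primitive_element (Res P) (Res Q)
    rcases eq_or_ne θ 0 with rfl | h
    · refine ⟨1, one_ne_zero, ?_⟩
      rw [← hθ, IntermediateField.adjoin_zero, IntermediateField.adjoin_one]
    · exact ⟨θ, h, hθ⟩
  set m := minpoly (Res P) θ
  have hint : IsIntegral (Res P) θ := Algebra.IsIntegral.isIntegral θ
  -- a lift vanishing at the other places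
  obtain ⟨b, hb⟩ := IsLocalRing.residue_surjective θ
  set Qs := (over_finite (K' := K') hF P).toFinset
  have hQs : ∀ R, R ∈ Qs ↔ IsOver R P := fun R => Set.Finite.mem_toFinset _
  obtain ⟨u, hu⟩ := exists_approx Qs (fun R => if R = Q then (b : K') else 0) (fun _ => 1)
  have huQ : Q.1 (u - b) < 1 := by
    have := hu Q ((hQs Q).mpr ⟨e, he⟩)
    rw [if_pos rfl] at this
    exact (le_exp_neg_one_iff Q).mp this
  have huR : ∀ R : Place k K', IsOver R P → R ≠ Q → R.1 u < 1 := fun R hR hne => by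
    have := hu R ((hQs R).mpr hR)
    rw [if_neg hne, sub_zero] at this
    exact (le_exp_neg_one_iff R).mp this
  have huQ1 : Q.1 u ≤ 1 := by
    rw [← sub_add_cancel u (b : K')]
    exact (Q.1.map_add _ _).trans (max_le huQ.le b.2)
  -- the conjugates of the lift
  have hout : ∀ σ : K' ≃ₐ[K] K', σ ∉ D → Q.1 (σ u) < 1 := fun σ hσ =>
    huR (placeComap (σ.restrictScalars k) Q) ⟨e, isOverWith_placeComap σ he⟩ fun hR =>
      hσ (mem_decomposition_iff.mpr fun x => congrArg (fun T : Place k K' => T.1 x) hR)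
  have hall : ∀ σ : K' ≃ₐ[K] K', Q.1 (σ u) ≤ 1 := fun σ => by
    by_cases hσ : σ ∈ D
    · rw [mem_decomposition_iff.mp hσ]; exact huQ1
    · exact (hout σ hσ).le
  let c : (K' ≃ₐ[K] K') → Q.O := fun σ => ⟨σ u, hall σ⟩
  have hcD : ∀ σ : D, IsLocalRing.residue Q.O (c σ) = σ • θ := fun σ => by
    rw [← hb, ← IsLocalRing.ResidueField.residue_smul, ← sub_eq_zero, ← map_sub, residue_eq_zero]
    show Q.1 ((σ : K' ≃ₐ[K] K') u - (σ : K' ≃ₐ[K] K') (b : K')) < 1
    rwa [← map_sub, mem_decomposition_iff.mp σ.2]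
  set g : (Q.O)[X] := ∏ σ : K' ≃ₐ[K] K', (X - C (c σ))
  set gb := g.map (IsLocalRing.residue Q.O)
  have hgK : g.map (Q.O).subtype = ∏ σ : K' ≃ₐ[K] K', (X - C (σ u)) := by
    simp only [g, Polynomial.map_prod, Polynomial.map_sub, map_X, map_C]
    rfl
  have hlift : gb ∈ Polynomial.lifts (algebraMap (Res P) (Res Q)) := by
    rw [Polynomial.lifts_iff_coeff_lifts]
    intro n
    have hfix : ∀ τ : K' ≃ₐ[K] K', τ ((g.coeff n).1) = (g.coeff n).1 := fun τ => by
      have h : (g.map (Q.O).subtype).map (τ : K' →+* K') = g.map (Q.O).subtype := by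
        rw [hgK, Polynomial.map_prod]
        simp only [Polynomial.map_sub, map_X, map_C]
        exact Fintype.prod_equiv (Equiv.mulLeft τ) _ _ fun σ => rfl
      have := congrArg (fun p => p.coeff n) h
      rwa [coeff_map, coeff_map] at this
    obtain ⟨a, ha⟩ := (IsGalois.mem_range_algebraMap_iff_fixed _).mpr hfix
    have haP : P.1 a ≤ 1 := by
      by_contra hlt
      rw [not_le] at hlt
      have : Q.1 (algebraMap K K' a) ≤ 1 := by rw [ha]; exact (g.coeff n).2
      rw [he] at this
      exact this.not_gt (one_lt_pow₀ hlt (by omega))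
    refine ⟨IsLocalRing.residue P.O ⟨a, haP⟩, ?_⟩
    rw [hres, coeff_map]
    exact congrArg _ (Subtype.ext ha)
  obtain ⟨h, hh⟩ := hlift
  change h.map (algebraMap (Res P) (Res Q)) = gb at hh
  have hroots : ∀ r : Res Q, gb.IsRoot r → r = 0 ∨ ∃ σ : D, σ • θ = r := fun r hr => by
    simp only [gb, g, Polynomial.map_prod, Polynomial.map_sub, map_X, map_C, IsRoot, eval_prod,
      Finset.prod_eq_zero_iff, eval_sub, eval_X, eval_C, sub_eq_zero] at hr
    obtain ⟨σ, -, rfl⟩ := hr
    by_cases hσ : σ ∈ D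
    · exact Or.inr ⟨⟨σ, hσ⟩, (hcD ⟨σ, hσ⟩).symm⟩
    · exact Or.inl ((residue_eq_zero Q _).mpr (hout σ hσ))
  have hdvd : m ∣ h := by
    refine minpoly.dvd _ _ ?_
    rw [← eval_map_algebraMap, hh]
    simp only [gb, g, Polynomial.map_prod, Polynomial.map_sub, map_X, map_C, eval_prod, eval_sub,
      eval_X, eval_C]
    refine Finset.prod_eq_zero (Finset.mem_univ 1) ?_
    have := hcD 1
    rw [one_smul] at this
    exact sub_eq_zero.mpr this.symm
  have hgb : gb.Splits := by
    simp only [gb, g, Polynomial.map_prod, Polynomial.map_sub, map_X, map_C]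
    exact Splits.prod fun σ _ => Splits.X_sub_C _
  have hgb0 : gb ≠ 0 :=
    ((monic_prod_of_monic _ _ fun σ _ => monic_X_sub_C _).map _).ne_zero
  have hsplit : (m.map (algebraMap (Res P) (Res Q))).Splits :=
    hgb.of_dvd hgb0 (hh ▸ Polynomial.map_dvd _ hdvd)
  have hfixP : ∀ (σ : D) (r : Res P), σ • algebraMap (Res P) (Res Q) r = algebraMap _ _ r := fun σ r => by
    obtain ⟨a, rfl⟩ := IsLocalRing.residue_surjective r
    rw [hres, ← IsLocalRing.ResidueField.residue_smul]
    exact congrArg _ (Subtype.ext ((σ : K' ≃ₐ[K] K').commutes a.1))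
  let act : D → (Res Q →ₐ[Res P] Res Q) := fun σ =>
    { MulSemiringAction.toRingHom D (Res Q) σ with commutes' := hfixP σ }
  have horb : MulAction.orbit D θ = m.rootSet (Res Q) := by
    ext r
    rw [mem_rootSet_of_ne (minpoly.ne_zero hint)]
    constructor
    · rintro ⟨σ, rfl⟩
      show aeval (act σ θ) m = 0
      rw [aeval_algHom_apply, minpoly.aeval, map_zero]
    · intro hr
      have hr' : gb.IsRoot r := by
        rw [IsRoot, ← hh, eval_map_algebraMap]
        obtain ⟨q, hq⟩ := hdvd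
        rw [hq, map_mul, hr, zero_mul]
      rcases hroots r hr' with rfl | ⟨σ, hσ⟩
      · rw [← coeff_zero_eq_aeval_zero'] at hr
        exact absurd ((map_eq_zero _).mp hr) (minpoly.coeff_zero_ne_zero hint hθ0)
      · exact ⟨σ, hσ⟩
  have hstab : MulAction.stabilizer D θ = (Q.O).inertiaSubgroup K := by
    ext σ
    refine ⟨fun hσ => RingEquiv.ext fun r => ?_, fun hσ => ?_⟩
    · have h1 : act σ = AlgHom.id _ _ := AlgHom.ext_of_adjoin_eq_top (s := {θ}) (by
        have := IntermediateField.adjoin_simple_toSubalgebra_of_isAlgebraic hint.isAlgebraic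
        rw [hθ, IntermediateField.top_toSubalgebra] at this
        exact this.symm) fun x hx => by rw [Set.mem_singleton_iff.mp hx]; exact hσ
      exact DFunLike.congr_fun h1 r
    · exact DFunLike.congr_fun (show MulSemiringAction.toRingAut _ (Res Q) σ = 1 from hσ) θ
  have hcard : ((Q.O).inertiaSubgroup K).index = Module.finrank (Res P) (Res Q) := by
    rw [← hstab, MulAction.index_stabilizer, horb, ← Nat.card_coe_set_eq, Nat.card_eq_fintype_card,
      card_rootSet_eq_natDegree (Algebra.IsSeparable.isSeparable (Res P) θ) hsplit,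
      ← IntermediateField.adjoin.finrank hint, hθ, IntermediateField.finrank_top']
  rw [← Subgroup.index_mul_card ((Q.O).inertiaSubgroup K), hcard]
  show _ * _ * Module.finrank k (Res P) = _ * Module.finrank k (Res Q)
  have aux : ∀ a b c : ℕ, a * b * c = b * (c * a) := fun a b c => by ring
  exact (aux _ _ _).trans (congrArg _ hdim.symm)

theorem card_inertia (hF : IsFF k K) [FiniteDimensional K K'] [IsGalois K K']
    {Q : Place k K'} {P : Place k K} {e : ℕ} (he : IsOverWith Q P e)
    [Algebra.IsSeparable k (Res Q)] : Nat.card (ramGroup K Q 1) = e := by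
  rw [← natCard_inertia]
  refine Nat.eq_of_mul_eq_mul_right (deg_pos (IsFF.ext (K' := K') hF) Q) ?_
  rw [← card_decomposition_eq hF he, card_decomposition hF he]

end Groth.Agent.FFLib
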