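import Groth.Agent.FFLib.Ram.Unramified
import Mathlib.FieldTheory.Perfect
import Mathlib.FieldTheory.Finiteness

/-! Infinitely many places with separable residue field. -/

set_option linter.unusedSectionVars false
set_option linter.style.haveILetI false

namespace Groth.Agent.FFLib

open FunFld WithZero IntermediateField

universe u v

variable {k : Type u} {K : Type v} [Field k] [Field K] [Algebra k K]

theorem infinite_separable_places (hK : IsFunctionField k K) (hg : IsGeometric k K) :
    {P : Place k K | Algebra.IsSeparable k (Res P)}.Infinite := by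
  classical
  rcases finite_or_infinite k with hk | hk
  · refine (infinite_places' (K := K) hK.1).mono fun P _ => ?_
    haveI : FiniteDimensional k (Res P) := residue_finite hK.1 P
    haveI : Algebra.IsAlgebraic k (Res P) :=
      ⟨fun a => (@IsIntegral.of_finite k (Res P) _ _ _ (residue_finite hK.1 P) a).isAlgebraic⟩
    haveI : PerfectField k := PerfectField.ofFinite
    exact (Algebra.IsAlgebraic.isSeparable_of_perfectField : Algebra.IsSeparable k (Res P))
  obtain ⟨x, hx, hsep⟩ := exists_separating_element hK hg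
  haveI := IsFF.finite_adjoin hK.1 hx
  haveI := hsep
  let x₀ : k⟮x⟯ := AdjoinSimple.gen k x
  have hx₀ : Transcendental k x₀ := fun h => hx (h.algHom (IntermediateField.val _))
  have htop : k⟮x₀⟯ = ⊤ := by
    apply IntermediateField.map_injective (k⟮x⟯).val
    rw [IntermediateField.adjoin_map, Set.image_singleton, ← AlgHom.fieldRange_eq_map,
      IntermediateField.fieldRange_val]
    rfl
  have htop' : ∀ c : k, k⟮x₀ - algebraMap k _ c⟯ = ⊤ := fun c => by
    rw [eq_top_iff, ← htop, adjoin_simple_le_iff]
    have h := add_mem (mem_adjoin_simple_self k (x₀ - algebraMap k _ c))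
      (IntermediateField.algebraMap_mem k⟮x₀ - algebraMap k _ c⟯ c)
    rwa [sub_add_cancel] at h
  have hF : IsFF k k⟮x⟯ := ⟨x₀, hx₀, by
    rw [htop]; exact Module.Finite.of_surjective (Algebra.linearMap _ _) fun a => ⟨⟨a, trivial⟩, rfl⟩⟩
  have hzero : ∀ c : k, ∃ P : Place k k⟮x⟯, P.1 (x₀ - algebraMap k _ c) < 1 ∧ P.deg = 1 := fun c => by
    have htc : Transcendental k (x₀ - algebraMap k _ c) := fun h => hx₀ (by
      simpa using h.add (isAlgebraic_algebraMap c))
    obtain ⟨P, hP⟩ := exists_place_zero hF htc
    refine ⟨P, hP, ?_⟩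
    have h := sum_ord_deg_le hF {P} htc (fun Q hQ => by rwa [Finset.mem_singleton.mp hQ])
    rw [Finset.sum_singleton] at h
    have h1 : Module.finrank k⟮x₀ - algebraMap k k⟮x⟯ c⟯ k⟮x⟯ = 1 := by
      rw [htop' c]; exact IntermediateField.finrank_top
    rw [h1] at h
    have hne : x₀ - algebraMap k _ c ≠ 0 := fun e => htc (e ▸ isAlgebraic_zero)
    have h2 := (val_lt_one_iff P hne).mp hP
    have h3 := deg_pos hF P
    push_cast at h
    have h4 : (P.deg : ℤ) ≤ P.ord (x₀ - algebraMap k _ c) * (P.deg : ℤ) := le_mul_of_one_le_left (by positivity) (by omega)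
    omega
  choose Pc hPc hdeg using hzero
  choose Rc hRc using fun c => exists_isOver (K' := K) hF (Pc c)
  have hPinj : Function.Injective Pc := fun a b hab => by
    by_contra hne
    have h2 := Valuation.map_sub_lt (Pc a).1 (hPc a) (hab ▸ hPc b)
    rw [sub_sub_sub_cancel_left, ← map_sub, val_algebraMap _ (sub_ne_zero.mpr (Ne.symm hne))] at h2
    exact lt_irrefl _ h2
  have hRinj : Function.Injective Rc := fun a b hab => by
    obtain ⟨e, he⟩ := hRc a
    obtain ⟨e', he'⟩ := hab ▸ hRc b
    exact hPinj (over_unique hF he he').1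
  obtain ⟨S, hS, hgood⟩ := finite_bad (K' := K) hF
  have hinf : {c : k | Pc c ∉ S}.Infinite := by
    have : {c : k | Pc c ∈ S}.Finite := hS.preimage hPinj.injOn
    exact this.infinite_compl
  refine (hinf.image hRinj.injOn).mono ?_
  rintro _ ⟨c, hc, rfl⟩
  exact (hgood _ hc _ (hRc c)).2 (hdeg c)

end Groth.Agent.FFLib
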