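import Groth.Agent.FFLib.Trace.IntegralBasis
import Groth.Agent.FFLib.Geometric
import Groth.Agent.FFLib.Rational
import Mathlib.LinearAlgebra.Matrix.Charpoly.Minpoly
import Mathlib.RingTheory.Nilpotent.Lemmas
import Mathlib.RingTheory.Trace.Basic
import Mathlib.RingTheory.Discriminant

/-! Almost all places are unramified in a separable extension. -/

set_option linter.unusedSectionVars false
set_option linter.style.haveILetI false

namespace Groth.Agent.FFLib

open FunFld WithZero IntermediateField

universe u v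

variable {k K K' : Type*} [Field k] [Field K] [Field K'] [Algebra k K] [Algebra K K']
  [Algebra k K'] [IsScalarTower k K K'] [FiniteDimensional K K']
  {P : Place k K} {Qs : Finset (Place k K')} {ι : Type*}

/-- An element vanishing at all places above has small trace. -/
theorem trace_lt_one (hF : IsFF k K) (hQs : ∀ Q, Q ∈ Qs ↔ IsOver Q P) {x : K'}
    (hx : ∀ R ∈ Qs, R.1 x < 1) : P.1 (Algebra.trace K K' x) < 1 := by
  classical
  obtain ⟨f, a, t, B, hR, hB, hBz, hind⟩ := exists_layered_basis hF P Qs hQs 0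
  have hBle : ∀ q, ∀ R ∈ Qs, R.1 (B q) ≤ 1 := fun q => (hBz (B q)).mpr fun r => by
    rw [B.repr_self, Finsupp.single_apply]
    split_ifs <;> simp
  have hL : ∀ r q, P.1 (Algebra.leftMulMatrix B x r q) ≤ 1 := fun r q => by
    rw [Algebra.leftMulMatrix_eq_repr_mul]
    exact (hBz _).mp (fun R hR => by rw [map_mul]; exact mul_le_one' (hx R hR).le (hBle q R hR)) r
  set N := Qs.sup (fun R => ramIdx R P)
  have hN : ∀ r q, P.1 (Algebra.leftMulMatrix B (x ^ N) r q) < 1 := fun r q => by
    rw [Algebra.leftMulMatrix_eq_repr_mul]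
    have hz : ∀ R ∈ Qs, R.1 (x ^ N * B q) ≤ exp (-(ramIdx R P : ℤ)) := fun R hR => by
      rw [map_mul, map_pow]
      refine (mul_le_of_le_one_right' (hBle q R hR)).trans ?_
      refine (pow_le_pow_left' ((le_exp_neg_one_iff R).mpr (hx R hR)) N).trans ?_
      rw [← exp_nsmul, exp_le_exp, nsmul_eq_mul]
      have : ramIdx R P ≤ N := Finset.le_sup (f := fun R => ramIdx R P) hR
      omega
    refine hind (fun i => B.repr (x ^ N * B q) i)
      ((hBz _).mp fun R hR => (hz R hR).trans (by rw [← exp_zero, exp_le_exp]; omega)) (fun R hR => ?_) r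
    rw [show (∑ i, algebraMap K K' (B.repr (x ^ N * B q) i) * B i) = x ^ N * B q by
      conv_rhs => rw [← B.sum_repr (x ^ N * B q)]
      exact Finset.sum_congr rfl fun i _ => (Algebra.smul_def _ _).symm]
    exact hz R hR
  let L : Matrix _ _ P.O := Matrix.of fun r q => (⟨Algebra.leftMulMatrix B x r q, hL r q⟩ : P.O)
  have hLK : L.map P.O.subtype = Algebra.leftMulMatrix B x := rfl
  have hpow : (L ^ N).map P.O.subtype = Algebra.leftMulMatrix B (x ^ N) := by
    rw [map_pow (Algebra.leftMulMatrix B), ← hLK]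
    exact map_pow P.O.subtype.mapMatrix L N
  have hnil : IsNilpotent (L.map (IsLocalRing.residue P.O)) := by
    refine ⟨N, ?_⟩
    rw [show L.map (IsLocalRing.residue P.O) ^ N = (L ^ N).map (IsLocalRing.residue P.O) from
      (map_pow (IsLocalRing.residue P.O).mapMatrix L N).symm]
    ext r q
    refine (residue_eq_zero P _).mpr ?_
    have := congrFun (congrFun hpow r) q
    rw [Matrix.map_apply] at this
    exact lt_of_eq_of_lt (congrArg P.1 this) (hN r q)
  have h0 := (Matrix.isNilpotent_trace_of_isNilpotent hnil).eq_zero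
  rw [show (L.map (IsLocalRing.residue P.O)).trace = IsLocalRing.residue P.O L.trace from
    (AddMonoidHom.map_trace (IsLocalRing.residue P.O).toAddMonoidHom L).symm, residue_eq_zero] at h0
  rw [Algebra.trace_eq_matrix_trace B]
  have e : (L.trace : K) = (Algebra.leftMulMatrix B x).trace := by
    rw [← hLK]; exact AddMonoidHom.map_trace P.O.subtype.toAddMonoidHom L
  exact lt_of_eq_of_lt (congrArg P.1 e.symm) h0

/-- Small traces against a basis with unit discriminant force smallness. -/
theorem small_of_trace [DecidableEq ι] [Fintype ι] (_hQs : ∀ Q, Q ∈ Qs ↔ IsOver Q P)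
    (b : Module.Basis ι K K') (hb : ∀ i, ∀ R ∈ Qs, R.1 (b i) ≤ 1)
    (hG : ∀ i j, P.1 (Algebra.traceMatrix K b i j) ≤ 1) (hdet : P.1 (Algebra.traceMatrix K b).det = 1)
    {z : K'} (hz : ∀ i, P.1 (Algebra.trace K K' (z * b i)) < 1) :
    ∀ R ∈ Qs, ∀ e, IsOverWith R P e → R.1 z ≤ exp (-(e : ℤ)) := by
  set G := Algebra.traceMatrix K b
  let GO : Matrix ι ι P.O := Matrix.of fun i j => (⟨G i j, hG i j⟩ : P.O)
  have hGO : GO.map P.O.subtype = G := rfl
  let c : ι → K := fun i => b.repr z i
  let v : ι → K := fun i => Algebra.trace K K' (z * b i)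
  have hv : G.mulVec c = v := by
    funext i
    show ∑ j, Algebra.traceMatrix K b i j * b.repr z j = Algebra.trace K K' (z * b i)
    conv_rhs => rw [← b.sum_repr z, Finset.sum_mul, map_sum]
    refine Finset.sum_congr rfl fun j _ => ?_
    rw [smul_mul_assoc, map_smul, smul_eq_mul, Algebra.traceMatrix_apply, Algebra.traceForm_apply,
      mul_comm, mul_comm (b j)]
  have hc : G.det • c = G.adjugate.mulVec v := by
    rw [← hv, Matrix.mulVec_mulVec, Matrix.adjugate_mul, Matrix.smul_mulVec, Matrix.one_mulVec]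
  have hadj : ∀ i j, P.1 (G.adjugate i j) ≤ 1 := fun i j => by
    rw [← hGO, show (GO.map P.O.subtype).adjugate = GO.adjugate.map P.O.subtype from
      (RingHom.map_adjugate P.O.subtype GO).symm]
    exact (GO.adjugate i j).2
  have hclt : ∀ i, P.1 (c i) < 1 := fun i => by
    have h := congrArg P.1 (congrFun hc i)
    rw [Pi.smul_apply, smul_eq_mul, map_mul, hdet, one_mul] at h
    rw [h]
    refine P.1.map_sum_lt one_ne_zero fun j _ => ?_
    rw [map_mul]
    exact (mul_le_of_le_one_left' (hadj i j)).trans_lt (hz j)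
  intro R hR e he
  rw [← b.sum_repr z]
  refine R.1.map_sum_le fun i _ => ?_
  rw [Algebra.smul_def, map_mul, he]
  refine (mul_le_of_le_one_right' (hb i R hR)).trans ((pow_le_pow_left' ((le_exp_neg_one_iff P).mpr (hclt i)) e).trans ?_)
  rw [← exp_nsmul, exp_le_exp, nsmul_eq_mul]; omega

/-- Unit discriminant: no ramification, and separable residue fields over rational places. -/
theorem unramified_of_disc [DecidableEq ι] [Fintype ι] (hF : IsFF k K) (hQs : ∀ Q, Q ∈ Qs ↔ IsOver Q P)
    (b : Module.Basis ι K K') (hb : ∀ i, ∀ R ∈ Qs, R.1 (b i) ≤ 1)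
    (hdet : P.1 (Algebra.traceMatrix K b).det = 1) :
    (∀ R ∈ Qs, IsOverWith R P 1) ∧ (P.deg = 1 → ∀ R ∈ Qs, Algebra.IsSeparable k (Res R)) := by
  classical
  have hG : ∀ i j, P.1 (Algebra.traceMatrix K b i j) ≤ 1 := fun i j =>
    trace_le_one hF P (z := b i * b j) fun R hR => by
      rw [map_mul]; exact mul_le_one' (hb i R ((hQs R).mpr hR)) (hb j R ((hQs R).mpr hR))
  have h1 : ∀ R ∈ Qs, IsOverWith R P 1 := fun R hR => by
    obtain ⟨e, he⟩ := (hQs R).mp hR
    obtain ⟨s, -, hs⟩ := exists_unif R
    obtain ⟨z, hz⟩ := exists_approx Qs (fun S => if S = R then s else 0) (fun S => if S = R then 2 else 1)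
    have hzR : R.1 z = exp (-1 : ℤ) := by
      have := hz R hR
      rw [if_pos rfl, if_pos rfl] at this
      rw [← sub_add_cancel z s, Valuation.map_add_eq_of_lt_right _ (this.trans_lt (by rw [hs, exp_lt_exp]; norm_num)), hs]
    have hzS : ∀ S ∈ Qs, S.1 z < 1 := fun S hS => by
      by_cases h : S = R
      · rw [h, hzR, ← exp_zero, exp_lt_exp]; norm_num
      · have := hz S hS
        rw [if_neg h, if_neg h, sub_zero] at this
        exact (le_exp_neg_one_iff S).mp this
    have h := small_of_trace hQs b hb hG hdet (fun i => trace_lt_one hF hQs fun S hS => by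
      rw [map_mul]; exact (mul_le_of_le_one_right' (hb i S hS)).trans_lt (hzS S hS)) R hR e he
    rw [hzR, exp_le_exp] at h
    have he1 := over_pos hF he
    obtain rfl : e = 1 := by omega
    exact he
  refine ⟨h1, fun hP R hR => ?_⟩
  by_contra hsep
  haveI := residue_finite (IsFF.ext (K' := K') hF) R
  obtain ⟨z, hz⟩ := exists_approx Qs (fun S => if S = R then 1 else 0) (fun _ => 1)
  have hzR : R.1 (z - 1) < 1 := by
    have := hz R hR; rw [if_pos rfl] at this; exact (le_exp_neg_one_iff R).mp this
  have hzS : ∀ S ∈ Qs, S ≠ R → S.1 z < 1 := fun S hS h => by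
    have := hz S hS; rw [if_neg h, sub_zero] at this; exact (le_exp_neg_one_iff S).mp this
  have hz1 : R.1 z = 1 := by
    rw [← sub_add_cancel z 1, Valuation.map_add_eq_of_lt_right _ (by rwa [map_one]), map_one]
  suffices H : ∀ i, P.1 (Algebra.trace K K' (z * b i)) < 1 by
    have h := small_of_trace hQs b hb hG hdet H R hR 1 (h1 R hR)
    rw [hz1, Nat.cast_one, ← exp_zero, exp_le_exp] at h
    omega
  intro i
  -- the trace sees only the residue field at `R`
  set y := z * b i
  have hyR : R.1 y ≤ 1 := by rw [map_mul, hz1, one_mul]; exact hb i R hR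
  have hyS : ∀ S ∈ Qs, S ≠ R → S.1 y < 1 := fun S hS h => by
    rw [map_mul]; exact (mul_le_of_le_one_right' (hb i S hS)).trans_lt (hzS S hS h)
  obtain ⟨f, a, t, B, hRf, hB, hBz, hind⟩ := exists_layered_basis hF P Qs hQs 0
  have hr1 : ∀ S : Qs, ramIdx S.1 P = 1 := fun S => ramIdx_eq hF (h1 S.1 S.2)
  have hexp : ∀ S : Qs, exp (-((0 + ramIdx S.1 P : ℕ) : ℤ)) < (1 : WithZero (Multiplicative ℤ)) := fun S => by
    rw [hr1 S, ← exp_zero, exp_lt_exp]; norm_num
  set R₀ : Qs := ⟨R, hR⟩
  obtain ⟨hf, -, ha, haind⟩ := hRf R₀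
  have hmem : ∀ j, a R₀ j ∈ R.O := fun j => ha j
  have hli : LinearIndependent k fun j => IsLocalRing.residue R.O ⟨a R₀ j, hmem j⟩ := by
    rw [Fintype.linearIndependent_iff]
    intro c hc j
    have h0 : IsLocalRing.residue R.O (∑ j, algebraMap k R.O (c j) * ⟨a R₀ j, hmem j⟩) = 0 := by
      rw [map_sum]
      exact (Finset.sum_congr rfl fun i _ => (residue_smul R (c i) _).symm).trans hc
    rw [residue_eq_zero, AddSubmonoidClass.coe_finsetSum] at h0
    by_contra hne
    have := haind (fun j => algebraMap k K (c j)) (fun j => P.2.1 _) (by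
      refine lt_of_eq_of_lt (congrArg R.1 (Finset.sum_congr rfl fun l _ => ?_)) h0
      rw [← IsScalarTower.algebraMap_apply]; rfl) j
    rw [val_algebraMap P hne] at this
    exact lt_irrefl _ this
  have hcard : Fintype.card (Fin (f R₀)) = Module.finrank k (Res R) := by
    rw [Fintype.card_fin]
    have : f R₀ * P.deg = R.deg := hf
    rw [hP, mul_one] at this
    exact this
  let bR := Module.Basis.mk hli (hli.span_eq_top_of_card_eq_finrank' hcard).ge
  have hbR : ∀ j, bR j = IsLocalRing.residue R.O ⟨a R₀ j, hmem j⟩ := fun j => Module.Basis.mk_apply _ _ _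
  set yb : Res R := IsLocalRing.residue R.O ⟨y, hyR⟩
  have htr : Algebra.trace k (Res R) yb = 0 := by
    rw [Algebra.trace_eq_zero_of_not_isSeparable hsep]; rfl
  rw [Algebra.trace_eq_matrix_trace bR] at htr
  set C := Algebra.leftMulMatrix bR yb
  -- coordinates of `y * B q` modulo the maximal ideal
  have hdiag : ∀ q : Σ S : Qs, Fin (ramIdx S.1 P) × Fin (f S),
      P.1 (B.repr (y * B q) q - if h : q.1 = R₀ then algebraMap k K (C (h ▸ q.2.2) (h ▸ q.2.2)) else 0) < 1 := by
    rintro ⟨S, i, j⟩
    have hsmall : ∀ w : K', (∀ T ∈ Qs, T.1 w < 1) → ∀ q, P.1 (B.repr w q) < 1 := fun w hw q => by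
      refine hind (fun q => B.repr w q) ((hBz w).mp fun T hT => (hw T hT).le) (fun T hT => ?_) q
      rw [show (∑ i, algebraMap K K' (B.repr w i) * B i) = w by
        conv_rhs => rw [← B.sum_repr w]
        exact Finset.sum_congr rfl fun i _ => (Algebra.smul_def _ _).symm, hr1 ⟨T, hT⟩, Nat.cast_one]
      exact (le_exp_neg_one_iff T).mpr (hw T hT)
    have hBsmall : ∀ (S : Qs) (p) (T : Qs), T ≠ S → T.1.1 (B ⟨S, p⟩) < 1 := fun S p T h =>
      ((hB S p).2 T h).trans_lt (hexp T)
    have hBle : ∀ q, ∀ T ∈ Qs, T.1 (B q) ≤ 1 := fun q => (hBz (B q)).mpr fun r => by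
      rw [B.repr_self, Finsupp.single_apply]
      split_ifs <;> simp
    by_cases h : S = R₀
    · subst h
      simp only [↓reduceDIte]
      have hi0 : ∀ i' : Fin (ramIdx R P), i' = i := fun i' => Fin.ext (by
        have := i.2; have := i'.2; have := hr1 R₀; simp only [R₀] at *; omega)
      let w := y * B ⟨R₀, i, j⟩ - ∑ l, algebraMap k K (C l j) • B ⟨R₀, i, l⟩
      have hw : ∀ T ∈ Qs, T.1 w < 1 := by
        intro T hT
        have hcst : ∀ l, T.1 (algebraMap K K' (algebraMap k K (C l j))) ≤ 1 := fun l => by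
          rw [← IsScalarTower.algebraMap_apply]; exact T.2.1 _
        by_cases hTR : T = R
        · rw [hTR]
          have hia : ∀ l, R.1 (B ⟨R₀, i, l⟩ - a R₀ l) < 1 := fun l => by
            have h0 := (hB R₀ (i, l)).1
            have : (i : ℕ) = 0 := by have := i.2; have := hr1 R₀; omega
            rw [this, pow_zero, mul_one] at h0
            exact h0.trans_lt (hexp R₀)
          have hres : R.1 (y * a R₀ j - ∑ l, algebraMap K K' (algebraMap k K (C l j)) * a R₀ l) < 1 := by
            have e : IsLocalRing.residue R.O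
                (⟨y, hyR⟩ * ⟨a R₀ j, hmem j⟩ - ∑ l, algebraMap k R.O (C l j) * ⟨a R₀ l, hmem l⟩) = 0 := by
              rw [map_sub, map_mul, map_sum, sub_eq_zero]
              refine Eq.trans ?_ (Finset.sum_congr rfl fun l _ => residue_smul R (C l j) _)
              rw [← hbR, ← bR.sum_repr (yb * bR j)]
              simp only [hbR]
              refine Finset.sum_congr rfl fun l _ => congrArg (· • _) ?_
              rw [← hbR]
              exact (Algebra.leftMulMatrix_eq_repr_mul bR yb l j).symm
            rw [residue_eq_zero] at e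
            refine lt_of_eq_of_lt (congrArg R.1 ?_) e
            rw [AddSubgroupClass.coe_sub, MulMemClass.coe_mul, AddSubmonoidClass.coe_finsetSum]
            refine congrArg _ (Finset.sum_congr rfl fun l _ => ?_)
            rw [← IsScalarTower.algebraMap_apply]; rfl
          rw [show w = (y * a R₀ j - ∑ l, algebraMap K K' (algebraMap k K (C l j)) * a R₀ l) +
            (y * (B ⟨R₀, i, j⟩ - a R₀ j) - ∑ l, algebraMap K K' (algebraMap k K (C l j)) * (B ⟨R₀, i, l⟩ - a R₀ l)) by
              simp only [w, Algebra.smul_def, mul_sub, Finset.sum_sub_distrib]; ring]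
          refine (R.1.map_add _ _).trans_lt (max_lt hres ((Valuation.map_sub _ _ _).trans_lt (max_lt ?_ ?_)))
          · rw [map_mul]; exact (mul_le_of_le_one_left' hyR).trans_lt (hia j)
          · exact R.1.map_sum_lt one_ne_zero fun l _ => by
              rw [map_mul]; exact (mul_le_of_le_one_left' (hTR ▸ hcst l)).trans_lt (hia l)
        · refine (Valuation.map_sub _ _ _).trans_lt (max_lt ?_ ?_)
          · rw [map_mul]; exact (mul_le_of_le_one_right' (hBle _ T hT)).trans_lt (hyS T hT hTR)
          · refine T.1.map_sum_lt one_ne_zero fun l _ => ?_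
            rw [Algebra.smul_def, map_mul]
            exact (mul_le_of_le_one_left' (hcst l)).trans_lt
              (hBsmall R₀ _ ⟨T, hT⟩ fun e => hTR (congrArg Subtype.val e))
      have h0 := hsmall w hw ⟨R₀, i, j⟩
      simp only [w, map_sub, map_sum, map_smul, B.repr_self, Finsupp.smul_single, smul_eq_mul, mul_one,
        Finsupp.sub_apply, Finsupp.finsetSum_apply] at h0
      rw [Finset.sum_eq_single j (fun l _ hl => Finsupp.single_eq_of_ne (by simp [hl.symm]))
        (by simp), Finsupp.single_eq_same] at h0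
      exact h0
    · simp only [h, ↓reduceDIte, sub_zero]
      refine hsmall _ (fun T hT => ?_) _
      rw [map_mul]
      by_cases hTR : T = R
      · rw [hTR]
        exact (mul_le_of_le_one_left' hyR).trans_lt (hBsmall S _ R₀ (Ne.symm h))
      · exact (mul_le_of_le_one_right' (hBle _ T hT)).trans_lt (hyS T hT hTR)
  rw [Algebra.trace_eq_matrix_trace B]
  have hsum := P.1.map_sum_lt one_ne_zero (s := Finset.univ) fun q _ => hdiag q
  rw [Finset.sum_sub_distrib] at hsum
  have e2 : (∑ q : Σ S : Qs, Fin (ramIdx S.1 P) × Fin (f S),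
      if h : q.1 = R₀ then algebraMap k K (C (h ▸ q.2.2) (h ▸ q.2.2)) else 0) = 0 := by
    rw [Fintype.sum_sigma, Finset.sum_eq_single R₀ (fun S _ hS => by simp [hS]) (by simp)]
    simp only [↓reduceDIte]
    rw [Fintype.sum_prod_type]
    refine Finset.sum_eq_zero fun i _ => ?_
    rw [← map_sum, show (∑ j, C j j) = C.trace from rfl, htr, map_zero]
  rw [e2, sub_zero] at hsum
  refine lt_of_eq_of_lt (congrArg P.1 (Finset.sum_congr rfl fun q _ => ?_)) hsum
  exact Algebra.leftMulMatrix_eq_repr_mul B y q q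

theorem finite_bad (hF : IsFF k K) [Algebra.IsSeparable K K'] :
    ∃ S : Set (Place k K), S.Finite ∧ ∀ P ∉ S, ∀ Q : Place k K', IsOver Q P →
      IsOverWith Q P 1 ∧ (P.deg = 1 → Algebra.IsSeparable k (Res Q)) := by
  classical
  let b := Module.finBasis K K'
  set d := (Algebra.traceMatrix K b).det
  have hd : d ≠ 0 := Algebra.discr_not_zero_of_basis K b
  choose Pof eof he1 he using fun Q : Place k K' => exists_over hF Q
  let T : Set (Place k K') := ⋃ i, Function.support fun Q : Place k K' => Q.ord (b i)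
  have hT : T.Finite := Set.finite_iUnion fun i => finite_support_ord (IsFF.ext (K' := K') hF) (b i)
  refine ⟨(Function.support fun P : Place k K => P.ord d) ∪ Pof '' T,
    (finite_support_ord hF d).union (hT.image _), fun P hP Q hQ => ?_⟩
  simp only [Set.mem_union, Function.mem_support, not_or, not_not] at hP
  set Qs := (over_finite (K' := K') hF P).toFinset
  have hQs : ∀ R, R ∈ Qs ↔ IsOver R P := fun R => Set.Finite.mem_toFinset _
  obtain ⟨h1, h2⟩ := unramified_of_disc hF hQs b (fun i R hR => by
      have hR' : R ∉ T := fun h => hP.2 (by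
        obtain ⟨e', he'⟩ := (hQs R).mp hR
        exact ⟨R, h, (over_unique hF (he R) he').1⟩)
      have h0 : R.ord (b i) = 0 := by
        by_contra h; exact hR' (Set.mem_iUnion.mpr ⟨i, h⟩)
      rw [val_le_one_iff R (b.ne_zero i), h0])
    (by rw [val_eq_exp P hd, hP.1, neg_zero, exp_zero])
  exact ⟨h1 Q ((hQs Q).mpr hQ), fun hdeg => h2 hdeg Q ((hQs Q).mpr hQ)⟩

theorem finite_ramified (hF : IsFF k K) [Algebra.IsSeparable K K'] :
    {Q : Place k K' | ¬ Function.Surjective (Q.1.comap (algebraMap K K'))}.Finite := by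
  obtain ⟨S, hS, h⟩ := finite_bad (K' := K') hF
  refine (hS.biUnion fun P _ => over_finite (K' := K') hF P).subset fun Q hQ => ?_
  obtain ⟨P, e, -, he⟩ := exists_over hF Q
  refine Set.mem_biUnion (x := P) (not_not.mp fun hP => hQ fun v => ?_) ⟨e, he⟩
  obtain ⟨x, hx⟩ := P.2.2 v
  exact ⟨x, by rw [Valuation.comap_apply, (h P hP Q ⟨e, he⟩).1 x, pow_one, hx]⟩

/-- There are infinitely many places. -/
theorem infinite_places' (hF : IsFF k K) : (Set.univ : Set (Place k K)).Infinite := by
  intro hfin
  classical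
  obtain ⟨x, hx, -⟩ := id hF
  obtain ⟨P₀, hP₀⟩ := exists_place_zero hF hx
  obtain ⟨y, hy⟩ := exists_approx_eq hfin.toFinset (fun _ => (0 : K)) (fun _ => 1)
  have hall : ∀ P : Place k K, P.1 y = exp (-1 : ℤ) := fun P => by
    simpa using hy P (hfin.mem_toFinset.mpr trivial)
  have hy0 : y ≠ 0 := fun e => by
    have := hall P₀; rw [e, map_zero] at this; exact exp_ne_zero this.symm
  have htr : Transcendental k y := transcendental_of_val_ne_one P₀ hy0 (by
    rw [hall, ← exp_zero, Ne, exp_inj]; norm_num)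
  obtain ⟨P, hP⟩ := exists_place_pole hF htr
  rw [hall, ← exp_zero, exp_lt_exp] at hP
  omega

end Groth.Agent.FFLib
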